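import Cfsg.Agent.H918.U43.Rep6
import Cfsg.Agent.H915.LD
import Cfsg.Agent.H175.BdSU

/-!
# Cores with socle `PSU₄(3)` in degree at most 12 (helper918)

`u43_core` : a core of degree at most 12 with `P / scalars ≅ PSU₄(3)` over a field of characteristic `p ≠ 3` has degree
six, and its traces are fixed by `x ↦ x^p` if `p ≡ 1 (mod 3)`, resp. sent to the traces of the inverses if
`p ≡ 2 (mod 3)`.
-/

set_option autoImplicit false
set_option maxRecDepth 20000

namespace Cfsg.Agent.H918.U43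

open Matrix Module Equiv Cfsg.Geo Cfsg.Agent.H915.LD
open scoped commutatorElement

universe u v w z

variable {ι : Type} [Fintype ι] [DecidableEq ι] {F : Type u} [Field F] {P : Subgroup (GL ι F)}

/-- the representation of `P` -/
noncomputable def rep (P : Subgroup (GL ι F)) : P →* Module.End F (ι → F) where
  toFun g := Matrix.toLin' ((g : GL ι F) : Matrix ι ι F)
  map_one' := by
    rw [Subgroup.coe_one, Units.val_one, Matrix.toLin'_one]; rfl
  map_mul' a b := by
    rw [Subgroup.coe_mul, Units.val_mul, Matrix.toLin'_mul]; rfl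

theorem rep_apply (g : P) (y : ι → F) : rep P g y = ((g : GL ι F) : Matrix ι ι F) *ᵥ y := Matrix.toLin'_apply _ _

theorem rep_inj : Function.Injective (rep P) := by
  intro a b h
  apply Subtype.ext
  apply Units.ext
  exact Matrix.toLin'.injective h

theorem toSoc_eq_one_iff (z : P) : toSoc P z = 1 ↔ ∃ c : F, rep P z = c • 1 := by
  have h1 : toSoc P z = 1 ↔ z ∈ (toSoc P).ker := Iff.rfl
  rw [h1, ker_toSoc, Subgroup.mem_subgroupOf, mem_scalars_iff]
  constructor
  · rintro ⟨c, hc⟩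
    refine ⟨c, LinearMap.ext fun y => ?_⟩
    rw [rep_apply, hc, Matrix.smul_mulVec, Matrix.one_mulVec]
    rfl
  · rintro ⟨c, hc⟩
    by_cases hι : Nonempty ι
    · obtain ⟨i⟩ := hι
      have h2 : ((z : GL ι F) : Matrix ι ι F) = c • (1 : Matrix ι ι F) := by
        apply Matrix.toLin'.injective
        rw [map_smul, Matrix.toLin'_one]
        exact hc
      have hc0 : c ≠ 0 := by
        rintro rfl
        have h3 : ((z : GL ι F) : Matrix ι ι F) * (((z⁻¹ : P) : GL ι F) : Matrix ι ι F) = 1 := by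
          rw [← Units.val_mul, ← Subgroup.coe_mul, mul_inv_cancel]; rfl
        rw [h2, zero_smul, Matrix.zero_mul] at h3
        have h4 := congrFun (congrFun h3 i) i
        rw [Matrix.one_apply_eq] at h4
        exact zero_ne_one h4
      exact ⟨Units.mk0 c hc0, h2⟩
    · refine ⟨1, ?_⟩
      ext i
      exact absurd ⟨i⟩ hι

/-- three divides the number of scalars -/
theorem three_dvd [Finite F] (h3 : ((3 : ℕ) : F) ≠ 0) {K : Type v} [Field K] [Fintype K] (hK : Fintype.card K = 9)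
    (e : Soc P ≃* Cfsg.PSU 4 K 3) (hn : Fintype.card ι ≤ 12) : 3 ∣ Nat.card ((scalars ι F).subgroupOf P) := by
  by_contra hnd
  have hcop : (Nat.card ((scalars ι F).subgroupOf P)).Coprime 3 :=
    ((Nat.Prime.coprime_iff_not_dvd Nat.prime_three).2 hnd).symm
  have hfin : Finite P := inferInstance
  let ex : GL ι F ≃* GL (Fin (Fintype.card ι)) F :=
    Units.mapEquiv (Matrix.reindexAlgEquiv F F (Fintype.equivFin ι)).toMulEquiv
  have hpr : H912.Bd.PR F (Fintype.card ι) 3 (Cfsg.PSU 4 K 3) := by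
    have h1 := ker_comp e
    refine ⟨P, inferInstance, e.toMonoidHom.comp (toSoc P), ex.toMonoidHom.comp P.subtype,
      e.surjective.comp (toSoc_surjective P), ?_, ?_, ?_⟩
    · intro x hx y
      have h2 : x ∈ (e.toMonoidHom.comp (toSoc P)).ker := hx
      rw [h1] at h2
      exact ((Subgroup.mem_center_iff.1 (scalars_le_center h2)) y).symm
    · rw [h1]; exact hcop
    · have h2 : (ex.toMonoidHom.comp P.subtype).ker = ⊥ := by
        rw [MonoidHom.ker_eq_bot_iff]
        exact ex.injective.comp P.subtype_injective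
      rw [h2]
      exact bot_le
  have hchar : CharP K 3 := by
    have : Fact (Nat.Prime 3) := ⟨Nat.prime_three⟩
    exact charP_of_card_eq_prime_pow (f := 2) (by rw [hK]; norm_num)
  have h2 := H175.BdSU.bd_psu (K := K) (q := 3) (n := 4) Nat.prime_three (by rw [hK]; norm_num) (by norm_num) h3
    (MulEquiv.refl (Cfsg.PSU 4 K 3)) _ hpr
  norm_num at h2
  omega

/-- a primitive cube root of unity -/
theorem exists_om (hne : Nonempty ι) [Finite F] (h : 3 ∣ Nat.card ((scalars ι F).subgroupOf P)) :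
    ∃ w : F, w ^ 2 + w + 1 = 0 := by
  have : Fact (Nat.Prime 3) := ⟨by norm_num⟩
  have : Finite P := inferInstance
  obtain ⟨z, hz⟩ := exists_prime_orderOf_dvd_card' (G := (scalars ι F).subgroupOf P) 3 h
  have h1 := z.2
  rw [Subgroup.mem_subgroupOf, mem_scalars_iff] at h1
  obtain ⟨c, hc⟩ := h1
  obtain ⟨i⟩ := hne
  have hc3 : (c : F) ^ 3 = 1 := by
    have h2 : z ^ 3 = 1 := by rw [← hz, pow_orderOf_eq_one]
    have h3 : ((((z ^ 3 : (scalars ι F).subgroupOf P) : P) : GL ι F) : Matrix ι ι F) = 1 := by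
      rw [h2]; rfl
    have h4 : ((c : F) ^ 3) • (1 : Matrix ι ι F) = 1 := by
      rw [Subgroup.coe_pow, Subgroup.coe_pow, Units.val_pow_eq_pow_val, hc, smul_pow, one_pow] at h3
      exact h3
    have h5 := congrFun (congrFun h4 i) i
    rwa [Matrix.smul_apply, Matrix.one_apply_eq, smul_eq_mul, mul_one] at h5
  have hc1 : (c : F) ≠ 1 := by
    intro h2
    have h3 : z = 1 := by
      apply Subtype.ext
      apply Subtype.ext
      apply Units.ext
      rw [hc]
      change (c : F) • (1 : Matrix ι ι F) = 1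
      rw [h2, one_smul]
    rw [h3, orderOf_one] at hz
    omega
  refine ⟨c, ?_⟩
  have h6 : ((c : F) - 1) * ((c : F) ^ 2 + c + 1) = 0 := by linear_combination hc3
  rcases mul_eq_zero.1 h6 with h7 | h7
  · exact absurd (sub_eq_zero.1 h7) hc1
  · exact h7

/-- the situation for a core -/
theorem exists_sit [Finite F] (hC : Core P) (h3 : (3 : F) ≠ 0) {K : Type v} [Field K] [Fintype K]
    (hK : Fintype.card K = 9) (e : Soc P ≃* Cfsg.PSU 4 K 3) (hn : Fintype.card ι ≤ 12) :
    ∃ (D : TD (Soc P)) (S : Sit D F (ι → F) P), S.ρ = rep P := by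
  obtain ⟨D⟩ := exists_TD hK e
  have h3' : ((3 : ℕ) : F) ≠ 0 := by exact_mod_cast h3
  obtain ⟨w, hw⟩ := exists_om hC.nonempty (three_dvd h3' hK e hn)
  obtain ⟨X, hX1, hX2⟩ := exists_lift D (toSoc_surjective P) (ker_toSoc_le P)
  exact ⟨D, ⟨rep P, rep_inj, toSoc P, toSoc_surjective P, toSoc_eq_one_iff, w, hw, h3, X, hX1, hX2⟩, rfl⟩

theorem irr_of_core (hC : Core P) (Y : Submodule F (ι → F)) (h : ∀ p : P, ∀ y ∈ Y, rep P p y ∈ Y) : Y = ⊥ ∨ Y = ⊤ := by
  apply hC.absIrred.1
  rintro s ⟨g, hg, rfl⟩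
  rw [Submodule.map_le_iff_le_comap]
  intro y hy
  exact h ⟨g, hg⟩ y hy

/-! ### extension of an automorphism -/

theorem scalars_comm {z : GL ι F} (hz : z ∈ scalars ι F) (g : GL ι F) : g * z = z * g := by
  obtain ⟨c, hc⟩ := (mem_scalars_iff z).1 hz
  apply Units.ext
  rw [Units.val_mul, Units.val_mul, hc, Matrix.mul_smul, Matrix.smul_mul, Matrix.mul_one, Matrix.one_mul]

theorem ext_hom [Finite F] (hC : Core P) {D : TD (Soc P)} (S : Sit D F (ι → F) P) (hρ : S.ρ = rep P) {c : ZMod 3}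
    (H : Hex S.Om c) (h1 : ∀ w ∈ S.Om, finrank F (S.W w) = 1) (Sg : GL ι F →* GL ι F) (C : GL ι F)
    (hM : ∀ m : P, m ∈ S.Mh → Sg (m : GL ι F) = C * m * C⁻¹) (y : P) : Sg (y : GL ι F) = C * y * C⁻¹ := by
  have hnt : Nontrivial (ι → F) := by
    obtain ⟨i⟩ := hC.nonempty
    exact ⟨⟨0, 1, fun h => zero_ne_one (congrFun h i)⟩⟩
  have : Finite P := inferInstance
  set Th : GL ι F → GL ι F := fun y => C⁻¹ * Sg y * C with hTh
  have hmul : ∀ a b, Th (a * b) = Th a * Th b := by
    intro a b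
    simp only [hTh, map_mul]
    group
  have hinv : ∀ a, Th a⁻¹ = (Th a)⁻¹ := by
    intro a
    simp only [hTh, map_inv]
    group
  have hMT : ∀ m : P, m ∈ S.Mh → Th (m : GL ι F) = m := by
    intro m hm
    simp only [hTh]
    rw [hM m hm]
    group
  obtain ⟨g, hg⟩ := S.surj D.g
  -- `Th g g⁻¹` commutes with `D`
  have hZc : ∀ m ∈ S.Dh, (Th (g : GL ι F) * (g : GL ι F)⁻¹) * ((m : P) : GL ι F) = ((m : P) : GL ι F) * (Th g * (g : GL ι F)⁻¹) := by
    intro m hm
    have h2 : g⁻¹ * (m : P) * g ∈ S.Mh := by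
      rw [S.mem_Mh, map_mul, map_mul, map_inv, hg]
      exact hm
    have h3 := hMT _ h2
    rw [Subgroup.coe_mul, Subgroup.coe_mul, Subgroup.coe_inv, hmul, hmul, hinv, hMT _ m.2] at h3
    have h4 : Th (g : GL ι F) * ((Th (g : GL ι F))⁻¹ * ((m : P) : GL ι F) * Th g) * (g : GL ι F)⁻¹ =
        Th (g : GL ι F) * ((g : GL ι F)⁻¹ * ((m : P) : GL ι F) * g) * (g : GL ι F)⁻¹ := by rw [h3]
    have e1 : Th (g : GL ι F) * ((Th (g : GL ι F))⁻¹ * ((m : P) : GL ι F) * Th g) * (g : GL ι F)⁻¹ =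
        ((m : P) : GL ι F) * (Th g * (g : GL ι F)⁻¹) := by group
    have e2 : Th (g : GL ι F) * ((g : GL ι F)⁻¹ * ((m : P) : GL ι F) * g) * (g : GL ι F)⁻¹ =
        (Th (g : GL ι F) * (g : GL ι F)⁻¹) * ((m : P) : GL ι F) := by group
    rw [e1, e2] at h4
    exact h4.symm
  have hZs : Th (g : GL ι F) * (g : GL ι F)⁻¹ ∈ scalars ι F := by
    set Z := Th (g : GL ι F) * (g : GL ι F)⁻¹ with hZ
    obtain ⟨a, ha⟩ := S.comm_Dh H h1 (Z := Matrix.toLin' (Z : Matrix ι ι F)) (fun m hm y => by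
      rw [hρ, rep_apply, rep_apply, Matrix.toLin'_apply, Matrix.toLin'_apply, Matrix.mulVec_mulVec,
        Matrix.mulVec_mulVec, ← Units.val_mul, ← Units.val_mul, hZc m hm])
    have h2 : (Z : Matrix ι ι F) = a • (1 : Matrix ι ι F) := by
      apply Matrix.toLin'.injective
      rw [map_smul, Matrix.toLin'_one]
      exact LinearMap.ext ha
    rw [mem_scalars_iff]
    have ha0 : a ≠ 0 := by
      rintro rfl
      obtain ⟨i⟩ := hC.nonempty
      have h3 : (Z : Matrix ι ι F) * ((Z⁻¹ : GL ι F) : Matrix ι ι F) = 1 := by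
        rw [← Units.val_mul, mul_inv_cancel, Units.val_one]
      rw [h2, zero_smul, Matrix.zero_mul] at h3
      have h4 := congrFun (congrFun h3 i) i
      rw [Matrix.one_apply_eq] at h4
      exact zero_ne_one h4
    exact ⟨Units.mk0 a ha0, h2⟩
  -- the subgroup where `Th` is a scalar multiple
  let R : Subgroup P :=
    { carrier := {y | Th (y : GL ι F) * (y : GL ι F)⁻¹ ∈ scalars ι F}
      mul_mem' := by
        intro a b ha hb
        change Th ((a * b : P) : GL ι F) * ((a * b : P) : GL ι F)⁻¹ ∈ scalars ι F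
        have e1 : Th ((a * b : P) : GL ι F) * ((a * b : P) : GL ι F)⁻¹ =
            (Th (a : GL ι F) * (Th (b : GL ι F) * (b : GL ι F)⁻¹)) * (a : GL ι F)⁻¹ := by
          rw [Subgroup.coe_mul, hmul]; group
        rw [e1, scalars_comm hb, mul_assoc]
        exact mul_mem hb ha
      one_mem' := by
        change Th ((1 : P) : GL ι F) * ((1 : P) : GL ι F)⁻¹ ∈ scalars ι F
        have e1 : Th ((1 : P) : GL ι F) * ((1 : P) : GL ι F)⁻¹ = 1 := by
          simp only [hTh, Subgroup.coe_one, map_one]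
          group
        rw [e1]
        exact one_mem _
      inv_mem' := by
        intro a ha
        change Th ((a⁻¹ : P) : GL ι F) * ((a⁻¹ : P) : GL ι F)⁻¹ ∈ scalars ι F
        have e1 : Th ((a⁻¹ : P) : GL ι F) * ((a⁻¹ : P) : GL ι F)⁻¹ =
            (Th (a : GL ι F))⁻¹ * ((Th (a : GL ι F) * (a : GL ι F)⁻¹)⁻¹ * Th (a : GL ι F)) := by
          rw [Subgroup.coe_inv, hinv]; group
        rw [e1, ← scalars_comm (inv_mem ha), inv_mul_cancel_left]
        exact inv_mem ha }
  have hR : R = ⊤ := by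
    refine S.eq_top_of ?_ ⟨g, hZs, hg⟩
    intro m hm
    change Th (m : GL ι F) * (m : GL ι F)⁻¹ ∈ scalars ι F
    rw [hMT m hm, mul_inv_cancel]
    exact one_mem _
  let E : Subgroup P :=
    { carrier := {y | Th (y : GL ι F) = y}
      mul_mem' := by
        intro a b (ha : Th (a : GL ι F) = a) (hb : Th (b : GL ι F) = b)
        change Th ((a * b : P) : GL ι F) = ((a * b : P) : GL ι F)
        rw [Subgroup.coe_mul, hmul, ha, hb]
      one_mem' := by
        change Th ((1 : P) : GL ι F) = ((1 : P) : GL ι F)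
        simp only [hTh, Subgroup.coe_one, map_one]
        group
      inv_mem' := by
        intro a (ha : Th (a : GL ι F) = a)
        change Th ((a⁻¹ : P) : GL ι F) = ((a⁻¹ : P) : GL ι F)
        rw [Subgroup.coe_inv, hinv, ha] }
  have hE : E = ⊤ := by
    rw [eq_top_iff, ← hC.commutator_top, commutator_def, Subgroup.commutator_le]
    intro a _ b _
    have ha : a ∈ R := by rw [hR]; trivial
    have hb : b ∈ R := by rw [hR]; trivial
    change Th ((⁅a, b⁆ : P) : GL ι F) = ((⁅a, b⁆ : P) : GL ι F)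
    obtain ⟨z, hz, hza⟩ : ∃ z ∈ scalars ι F, Th (a : GL ι F) = z * a := ⟨_, ha, by group⟩
    obtain ⟨w, hw, hwb⟩ : ∃ w ∈ scalars ι F, Th (b : GL ι F) = w * b := ⟨_, hb, by group⟩
    have e1 : ((⁅a, b⁆ : P) : GL ι F) = (a : GL ι F) * b * (a : GL ι F)⁻¹ * (b : GL ι F)⁻¹ := by
      rw [commutatorElement_def]; rfl
    rw [e1, hmul, hmul, hmul, hinv, hinv, hza, hwb]
    have e2 : z * (a : GL ι F) * (w * b) * (z * (a : GL ι F))⁻¹ * (w * (b : GL ι F))⁻¹ =
        z * ((a : GL ι F) * w) * b * (a : GL ι F)⁻¹ * (z⁻¹ * (b : GL ι F)⁻¹) * w⁻¹ := by group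
    rw [e2, scalars_comm hw, ← scalars_comm (inv_mem hz)]
    have e3 : z * (w * (a : GL ι F)) * b * (a : GL ι F)⁻¹ * ((b : GL ι F)⁻¹ * z⁻¹) * w⁻¹ =
        z * (w * ((a : GL ι F) * b * (a : GL ι F)⁻¹ * (b : GL ι F)⁻¹)) * z⁻¹ * w⁻¹ := by group
    rw [e3, ← scalars_comm hw, ← scalars_comm hz]
    have e4 : (a : GL ι F) * b * (a : GL ι F)⁻¹ * (b : GL ι F)⁻¹ * w * z * z⁻¹ * w⁻¹ =
        (a : GL ι F) * b * (a : GL ι F)⁻¹ * (b : GL ι F)⁻¹ := by group
    exact e4
  have hy : y ∈ E := by rw [hE]; trivial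
  have hy' : C⁻¹ * Sg (y : GL ι F) * C = y := hy
  calc Sg (y : GL ι F) = C * (C⁻¹ * Sg (y : GL ι F) * C) * C⁻¹ := by group
    _ = C * y * C⁻¹ := by rw [hy']

/-- inverse transpose of the Frobenius twist -/
noncomputable def twist (f : F →+* F) : GL ι F →* GL ι F where
  toFun y := ⟨(((Matrix.GeneralLinearGroup.map f y)⁻¹ : GL ι F) : Matrix ι ι F)ᵀ,
    ((Matrix.GeneralLinearGroup.map f y : GL ι F) : Matrix ι ι F)ᵀ, by
      rw [← Matrix.transpose_mul, ← Units.val_mul, mul_inv_cancel, Units.val_one, Matrix.transpose_one], by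
      rw [← Matrix.transpose_mul, ← Units.val_mul, inv_mul_cancel, Units.val_one, Matrix.transpose_one]⟩
  map_one' := by
    apply Units.ext
    change (((Matrix.GeneralLinearGroup.map f 1)⁻¹ : GL ι F) : Matrix ι ι F)ᵀ = 1
    rw [map_one, inv_one, Units.val_one, Matrix.transpose_one]
  map_mul' a b := by
    apply Units.ext
    change (((Matrix.GeneralLinearGroup.map f (a * b))⁻¹ : GL ι F) : Matrix ι ι F)ᵀ =
      (((Matrix.GeneralLinearGroup.map f a)⁻¹ : GL ι F) : Matrix ι ι F)ᵀ *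
      (((Matrix.GeneralLinearGroup.map f b)⁻¹ : GL ι F) : Matrix ι ι F)ᵀ
    rw [map_mul, _root_.mul_inv_rev, Units.val_mul, Matrix.transpose_mul]

/-- **Monomial form.** -/
theorem exists_mono [Finite F] (hC : Core P) (h6 : Fintype.card ι = 6) {D : TD (Soc P)} (S : Sit D F (ι → F) P)
    (hρ : S.ρ = rep P) [Nontrivial (ι → F)] {c : ZMod 3} (H : Hex S.Om c) (hS : S.Scal) :
    ∃ B : GL ι F, ∀ m : P, m ∈ S.Mh → ∃ (σ : Perm ι) (a : ι → F), (∀ j, a j ^ 6 = 1) ∧
      ((B⁻¹ * (m : GL ι F) * B : GL ι F) : Matrix ι ι F) = Matrix.of fun i j => if i = σ j then a j else 0 := by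
  obtain ⟨y, hy, hy0, hact⟩ := S.exists_basis H hS (by
    intro z a hz
    obtain ⟨i⟩ := hC.nonempty
    have h2 : ((z : GL ι F) : Matrix ι ι F) = a • (1 : Matrix ι ι F) := by
      apply Matrix.toLin'.injective
      rw [map_smul, Matrix.toLin'_one]
      rw [hρ] at hz
      exact hz
    have h3 := hC.scalar_pow z.2 h2
    rwa [h6] at h3)
  have hli := S.linInd hy hy0
  have e : ι ≃ {w // w ∈ S.Om} := Fintype.equivOfCardEq (by rw [h6, H.fcard])
  let B0 : Matrix ι ι F := Matrix.of fun i j => y (e j) i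
  have hB0 : IsUnit B0 := by
    rw [← Matrix.linearIndependent_cols_iff_isUnit]
    exact hli.comp e e.injective
  obtain ⟨B, hB⟩ := hB0
  refine ⟨B, fun m hm => ?_⟩
  choose a ha6 ha using fun w => hact ⟨m, hm⟩ w
  refine ⟨(e.trans (S.act ⟨m, hm⟩)).trans e.symm, fun j => a (e j), fun j => ha6 _, ?_⟩
  set N : Matrix ι ι F := Matrix.of fun i j => if i = ((e.trans (S.act ⟨m, hm⟩)).trans e.symm) j then a (e j) else 0
    with hN
  have h1 : ((m : GL ι F) : Matrix ι ι F) * (B : Matrix ι ι F) = (B : Matrix ι ι F) * N := by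
    refine Matrix.ext fun i j => ?_
    have h2 : (((m : GL ι F) : Matrix ι ι F) * (B : Matrix ι ι F)) i j = (((m : GL ι F) : Matrix ι ι F) *ᵥ y (e j)) i := by
      rw [hB]; rfl
    have h3 := ha (e j)
    rw [hρ] at h3
    have h4 : ((m : GL ι F) : Matrix ι ι F) *ᵥ y (e j) = a (e j) • y (S.act ⟨m, hm⟩ (e j)) := by
      rw [← h3]
      exact (rep_apply m _).symm
    rw [h2, h4, Matrix.mul_apply, Finset.sum_eq_single (e.symm (S.act ⟨m, hm⟩ (e j)))]
    · have e1 : (B : Matrix ι ι F) i (e.symm (S.act ⟨m, hm⟩ (e j))) = y (S.act ⟨m, hm⟩ (e j)) i := by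
        rw [hB]
        change y (e (e.symm (S.act ⟨m, hm⟩ (e j)))) i = _
        rw [Equiv.apply_symm_apply]
      have e2 : N (e.symm (S.act ⟨m, hm⟩ (e j))) j = a (e j) := if_pos rfl
      rw [e1, e2, Pi.smul_apply, smul_eq_mul, mul_comm]
    · intro k _ hk
      have e2 : N k j = 0 := if_neg hk
      rw [e2, mul_zero]
    · intro h; exact absurd (Finset.mem_univ _) h
  rw [Units.val_mul, Units.val_mul, Matrix.mul_assoc, h1, ← Matrix.mul_assoc, ← Units.val_mul, inv_mul_cancel,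
    Units.val_one, Matrix.one_mul]

theorem pow_p_one {p : ℕ} [hp : Fact p.Prime] (hm : p % 3 = 1) {a : F} (ha : a ^ 6 = 1) : a ^ p = a := by
  have h2 : p % 2 = 1 := by
    rcases hp.out.eq_two_or_odd with h | h
    · rw [h] at hm; norm_num at hm
    · exact h
  obtain ⟨k, hk⟩ : ∃ k, p = 6 * k + 1 := ⟨p / 6, by omega⟩
  rw [hk, pow_succ, pow_mul, ha, one_pow, one_mul]

theorem pow_p_two {p : ℕ} [hp : Fact p.Prime] [CharP F p] (hm : p % 3 = 2) {a : F} (ha : a ^ 6 = 1) :
    a ^ p * a = 1 := by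
  rcases hp.out.eq_two_or_odd with h | h
  · subst h
    have h1 : (a ^ 3 - 1) ^ 2 = 0 := by
      have h2 : (2 : F) = 0 := by
        have := CharP.cast_eq_zero F 2
        exact_mod_cast this
      linear_combination ha + (1 - a ^ 3) * h2
    have h3 := pow_eq_zero_iff (two_ne_zero) |>.1 h1
    linear_combination h3
  · obtain ⟨k, hk⟩ : ∃ k, p + 1 = 6 * k := ⟨(p + 1) / 6, by omega⟩
    rw [← pow_succ, hk, pow_mul, ha, one_pow]

/-- **Cores with socle `PSU₄(3)`.** -/
theorem u43_core [Finite F] (hC : Core P) (p : ℕ) [hp : Fact p.Prime] [CharP F p] (hp3 : p ≠ 3) {K : Type v} [Field K]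
    [Fintype K] (hK : Fintype.card K = 9) (e : Soc P ≃* Cfsg.PSU 4 K 3) (hn : Fintype.card ι ≤ 12) :
    Fintype.card ι = 6 ∧ (p % 3 = 1 → Fr P p) ∧ (p % 3 = 2 → Cj P p) := by
  have h3 : (3 : F) ≠ 0 := by
    intro h
    have h1 : ((3 : ℕ) : F) = 0 := by exact_mod_cast h
    rw [CharP.cast_eq_zero_iff F p] at h1
    exact hp3 ((Nat.prime_dvd_prime_iff_eq hp.out Nat.prime_three).1 h1)
  obtain ⟨D, S, hρ⟩ := exists_sit hC h3 hK e hn
  have hnt : Nontrivial (ι → F) := by
    obtain ⟨i⟩ := hC.nonempty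
    exact ⟨⟨0, 1, fun h => zero_ne_one (congrFun h i)⟩⟩
  have : Finite P := inferInstance
  have hsimp : IsSimpleGroup (Soc P) := hC.simple
  obtain ⟨h6, c, H, hW, hS⟩ := S.degree (by rw [Module.finrank_pi]; exact hn) (by
    intro Y hY
    rw [hρ] at hY
    exact irr_of_core hC Y hY)
  rw [Module.finrank_pi] at h6
  obtain ⟨B, hB⟩ := exists_mono hC h6 S hρ H hS
  -- general argument
  have key : ∀ Sg : GL ι F →* GL ι F, (∀ m : P, m ∈ S.Mh → Sg (B⁻¹ * (m : GL ι F) * B) = B⁻¹ * (m : GL ι F) * B) →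
      ∀ y ∈ P, tr (Sg y) = tr y := by
    intro Sg hSg y hy
    have h1 := ext_hom hC S hρ H hW Sg (Sg B * B⁻¹) (by
      intro m hm
      have h2 := hSg m hm
      rw [map_mul, map_mul, map_inv] at h2
      have h3 : Sg (m : GL ι F) = Sg B * ((Sg B)⁻¹ * Sg (m : GL ι F) * Sg B) * (Sg B)⁻¹ := by group
      rw [h3, h2]
      group) ⟨y, hy⟩
    rw [h1]
    exact tr_conj _ _
  refine ⟨h6, fun hm1 y hy => ?_, fun hm2 y hy => ?_⟩
  · have h1 := key (Matrix.GeneralLinearGroup.map (frobenius F p)) (by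
      intro m hm
      obtain ⟨σ, a, ha, hN⟩ := hB m hm
      apply Units.ext
      rw [Matrix.GeneralLinearGroup.map]
      change ((B⁻¹ * (m : GL ι F) * B : GL ι F) : Matrix ι ι F).map (frobenius F p) = _
      rw [hN]
      refine Matrix.ext fun i j => ?_
      rw [Matrix.map_apply, Matrix.of_apply]
      split_ifs with h
      · rw [frobenius_def, pow_p_one hm1 (ha j)]
      · rw [map_zero]) y hy
    have h2 : tr (Matrix.GeneralLinearGroup.map (frobenius F p) y) = tr y ^ p := by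
      unfold tr
      rw [← frobenius_def, AddMonoidHom.map_trace (frobenius F p)]
      rfl
    rw [← h2, h1]
  · have h1 := key (twist (frobenius F p)) (by
      intro m hm
      obtain ⟨σ, a, ha, hN⟩ := hB m hm
      set Nu := B⁻¹ * (m : GL ι F) * B with hNu
      have h2 : (((Matrix.GeneralLinearGroup.map (frobenius F p) Nu : GL ι F) : Matrix ι ι F))ᵀ * (Nu : Matrix ι ι F) = 1 := by
        have h3 : ((Matrix.GeneralLinearGroup.map (frobenius F p) Nu : GL ι F) : Matrix ι ι F) =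
            (Nu : Matrix ι ι F).map (frobenius F p) := rfl
        rw [h3, hN]
        refine Matrix.ext fun i j => ?_
        rw [Matrix.mul_apply, Finset.sum_eq_single (σ j)]
        · rw [Matrix.transpose_apply, Matrix.map_apply, Matrix.of_apply, Matrix.of_apply, if_pos rfl, Matrix.one_apply]
          by_cases hij : i = j
          · rw [if_pos hij, if_pos (by rw [hij]), frobenius_def, hij, pow_p_two hm2 (ha j)]
          · rw [if_neg hij, if_neg (fun h => hij (σ.injective h).symm), map_zero, zero_mul]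
        · intro k _ hk
          rw [Matrix.of_apply (i := k), if_neg hk, mul_zero]
        · intro h; exact absurd (Finset.mem_univ _) h
      apply Units.ext
      change (((Matrix.GeneralLinearGroup.map (frobenius F p) Nu)⁻¹ : GL ι F) : Matrix ι ι F)ᵀ = (Nu : Matrix ι ι F)
      calc (((Matrix.GeneralLinearGroup.map (frobenius F p) Nu)⁻¹ : GL ι F) : Matrix ι ι F)ᵀ =
          (((Matrix.GeneralLinearGroup.map (frobenius F p) Nu)⁻¹ : GL ι F) : Matrix ι ι F)ᵀ *
          ((((Matrix.GeneralLinearGroup.map (frobenius F p) Nu : GL ι F) : Matrix ι ι F))ᵀ * (Nu : Matrix ι ι F)) := by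
            rw [h2, Matrix.mul_one]
        _ = (Nu : Matrix ι ι F) := by
            rw [← Matrix.mul_assoc, ← Matrix.transpose_mul, ← Units.val_mul, mul_inv_cancel, Units.val_one,
              Matrix.transpose_one, Matrix.one_mul]) y⁻¹ (inv_mem hy)
    have h2 : tr (twist (frobenius F p) y⁻¹) = tr y ^ p := by
      have h3 : tr (twist (frobenius F p) y⁻¹) = tr (Matrix.GeneralLinearGroup.map (frobenius F p) y) := by
        unfold tr
        change ((((Matrix.GeneralLinearGroup.map (frobenius F p) y⁻¹)⁻¹ : GL ι F) : Matrix ι ι F)ᵀ).trace = _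
        rw [Matrix.trace_transpose, map_inv, inv_inv]
      rw [h3]
      unfold tr
      rw [← frobenius_def, AddMonoidHom.map_trace (frobenius F p)]
      rfl
    rw [← h2, h1]

end Cfsg.Agent.H918.U43
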