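import Cfsg.Agent.H918.U43.Comb

/-!
# The permutation group on the six weights (helper918)
-/

set_option autoImplicit false
set_option maxRecDepth 20000

namespace Cfsg.Agent.H918.U43

open Matrix Equiv

/-- The shape of the set of weights. -/
structure Hex (Ω : Finset A4) (c : ZMod 3) : Prop where
  card : Ω.card = 6
  hc : c = 1 ∨ c = 2
  nd : ∀ f, f ≠ 0 → Nd Ω f = if qd f = c then 1 else 0

section

variable {Ω : Finset A4} {c : ZMod 3} (H : Hex Ω c)

theorem apinv {α : Type*} (σ : Perm α) (a : α) : σ (σ⁻¹ a) = a := by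
  rw [← Perm.mul_apply, mul_inv_cancel, Perm.one_apply]

theorem invap {α : Type*} (σ : Perm α) (a : α) : σ⁻¹ (σ a) = a := by
  rw [← Perm.mul_apply, inv_mul_cancel, Perm.one_apply]

/-- permutations acting through a linear map on differences -/
def Lin (σ : Perm {w // w ∈ Ω}) (ρ : A4 → A4) : Prop :=
  ∀ w w', ((σ w' : {w // w ∈ Ω}) : A4) - (σ w : {w // w ∈ Ω}) = ρ ((w' : A4) - w)

theorem Lin.mul {σ τ : Perm {w // w ∈ Ω}} {ρ ρ' : A4 → A4} (h : Lin σ ρ) (h' : Lin τ ρ') :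
    Lin (σ * τ) (fun f => ρ (ρ' f)) := by
  intro w w'
  rw [Perm.mul_apply, Perm.mul_apply, h, h']

include H

theorem Hex.c_ne : c ≠ 0 := by
  rcases H.hc with h | h <;> rw [h] <;> decide

theorem Hex.qd_ne {f : A4} (h : qd f = c) : f ≠ 0 := by
  rintro rfl
  apply H.c_ne
  rw [← h]
  decide

theorem Hex.unique {f w u : A4} (hf : f ≠ 0) (hw : w ∈ Ω) (hwf : w + f ∈ Ω) (hu : u ∈ Ω) (huf : u + f ∈ Ω) : w = u := by
  have h1 : (Ω.filter fun w => w + f ∈ Ω).card ≤ 1 := by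
    have h2 := H.nd f hf
    unfold Nd at h2
    rw [h2]
    split_ifs <;> norm_num
  exact Finset.card_le_one.1 h1 w (Finset.mem_filter.2 ⟨hw, hwf⟩) u (Finset.mem_filter.2 ⟨hu, huf⟩)

theorem Hex.exists_pair {f : A4} (hf : qd f = c) : ∃ w ∈ Ω, w + f ∈ Ω := by
  have h2 := H.nd f (H.qd_ne hf)
  rw [if_pos hf] at h2
  unfold Nd at h2
  obtain ⟨w, hw⟩ := Finset.card_pos.1 (by rw [h2]; norm_num)
  rw [Finset.mem_filter] at hw
  exact ⟨w, hw.1, hw.2⟩

theorem Hex.qd_sub {w w' : A4} (hw : w ∈ Ω) (hw' : w' ∈ Ω) (h : w ≠ w') : qd (w' - w) = c := by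
  by_contra hq
  have hf : w' - w ≠ 0 := sub_ne_zero.2 h.symm
  have h2 := H.nd _ hf
  rw [if_neg hq] at h2
  unfold Nd at h2
  rw [Finset.card_eq_zero] at h2
  have h3 : w ∈ Ω.filter fun u => u + (w' - w) ∈ Ω := Finset.mem_filter.2 ⟨hw, by rwa [add_sub_cancel]⟩
  rw [h2] at h3
  exact absurd h3 (Finset.notMem_empty _)

theorem Hex.fcard : Fintype.card {w // w ∈ Ω} = 6 := by rw [Fintype.card_coe, H.card]

/-- pairs and differences -/
theorem Hex.card_pairs (Q : A4 → Prop) [DecidablePred Q] :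
    (Finset.univ.filter fun p : {w // w ∈ Ω} × {w // w ∈ Ω} => p.1 ≠ p.2 ∧ Q ((p.2 : A4) - p.1)).card =
      (Finset.univ.filter fun f : A4 => qd f = c ∧ Q f).card := by
  refine Finset.card_bij (fun p _ => (p.2 : A4) - p.1) ?_ ?_ ?_
  · rintro ⟨a, b⟩ hp
    rw [Finset.mem_filter] at hp ⊢
    refine ⟨Finset.mem_univ _, H.qd_sub a.2 b.2 ?_, hp.2.2⟩
    intro h
    exact hp.2.1 (Subtype.ext h)
  · rintro ⟨a, b⟩ hp ⟨a', b'⟩ hp' h
    rw [Finset.mem_filter] at hp hp'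
    have hne : (b : A4) - a ≠ 0 := by
      rw [sub_ne_zero]
      intro h
      exact hp.2.1 (Subtype.ext h.symm)
    have h' : (b : A4) - a = (b' : A4) - a' := h
    have h1 : (a : A4) = a' := H.unique hne a.2 (by rw [add_sub_cancel]; exact b.2) a'.2 (by
      rw [h', add_sub_cancel]; exact b'.2)
    have h2 : (b : A4) = b' := by
      rw [h1] at h'
      exact sub_left_injective h'
    rw [Subtype.ext h1, Subtype.ext h2]
  · intro f hf
    rw [Finset.mem_filter] at hf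
    obtain ⟨w, hw, hwf⟩ := H.exists_pair hf.2.1
    refine ⟨(⟨w, hw⟩, ⟨w + f, hwf⟩), ?_, ?_⟩
    · rw [Finset.mem_filter]
      refine ⟨Finset.mem_univ _, ?_, ?_⟩
      · intro h
        have h1 : w = w + f := congrArg Subtype.val h
        exact H.qd_ne hf.2.1 (left_eq_add.1 h1)
      · change Q (w + f - w)
        rw [add_sub_cancel_left]
        exact hf.2.2
    · change w + f - w = f
      rw [add_sub_cancel_left]

theorem Hex.fixed_of {σ : Perm {w // w ∈ Ω}} {ρ : A4 → A4} (hσ : Lin σ ρ) {a b : {w // w ∈ Ω}} (hab : a ≠ b)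
    (h : ρ ((b : A4) - a) = (b : A4) - a) : σ a = a ∧ σ b = b := by
  have hne : (b : A4) - a ≠ 0 := by
    rw [sub_ne_zero]
    intro h
    exact hab (Subtype.ext h.symm)
  have h1 := hσ a b
  rw [h] at h1
  have h2 : ((σ a : {w // w ∈ Ω}) : A4) = a := H.unique hne (σ a).2 (by
    rw [← h1, add_sub_cancel]; exact (σ b).2) a.2 (by rw [add_sub_cancel]; exact b.2)
  refine ⟨Subtype.ext h2, Subtype.ext ?_⟩
  rw [h2] at h1
  exact sub_left_injective h1

/-- the number of fixed points -/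
theorem Hex.card_fix {σ : Perm {w // w ∈ Ω}} {ρ : A4 → A4} (hσ : Lin σ ρ) :
    (Finset.univ.filter fun a => σ a = a).card * (Finset.univ.filter fun a => σ a = a).card =
      (Finset.univ.filter fun f : A4 => qd f = c ∧ ρ f = f).card + (Finset.univ.filter fun a => σ a = a).card := by
  rw [← H.card_pairs fun f => ρ f = f]
  have h1 : (Finset.univ.filter fun p : {w // w ∈ Ω} × {w // w ∈ Ω} =>
      p.1 ≠ p.2 ∧ ρ ((p.2 : A4) - p.1) = (p.2 : A4) - p.1) = (Finset.univ.filter fun a => σ a = a).offDiag := by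
    ext ⟨a, b⟩
    rw [Finset.mem_filter, Finset.mem_offDiag, Finset.mem_filter, Finset.mem_filter]
    constructor
    · rintro ⟨_, h, h'⟩
      obtain ⟨h2, h3⟩ := H.fixed_of hσ h h'
      exact ⟨⟨Finset.mem_univ _, h2⟩, ⟨Finset.mem_univ _, h3⟩, h⟩
    · rintro ⟨⟨_, h2⟩, ⟨_, h3⟩, h⟩
      refine ⟨Finset.mem_univ _, h, ?_⟩
      change ρ ((b : A4) - a) = (b : A4) - a
      rw [← hσ, h2, h3]
  rw [h1, Finset.offDiag_card]
  have h4 : (Finset.univ.filter fun a => σ a = a).card ≤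
      (Finset.univ.filter fun a => σ a = a).card * (Finset.univ.filter fun a => σ a = a).card := Nat.le_mul_self _
  omega

theorem Hex.isThreeCycle {σ : Perm {w // w ∈ Ω}} {ρ : A4 → A4} (hσ : Lin σ ρ)
    (h6 : (Finset.univ.filter fun f : A4 => qd f = c ∧ ρ f = f).card = 6) : σ.IsThreeCycle := by
  rw [← card_support_eq_three_iff]
  have h1 := H.card_fix hσ
  rw [h6] at h1
  set k := (Finset.univ.filter fun a => σ a = a).card with hk
  have h2 : k = 3 := by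
    have hk7 : k < 4 := by
      by_contra h
      have h4 : 4 ≤ k := by omega
      nlinarith
    interval_cases k <;> omega
  have h3 : σ.support.card + k = 6 := by
    rw [← H.fcard, ← Finset.card_univ, ← Finset.card_filter_add_card_filter_not (s := Finset.univ) (fun a => σ a ≠ a)]
    congr 1
    rw [hk]
    congr 1
    ext a
    simp
  omega

/-- no fixed point -/
theorem Hex.no_fixed {σ : Perm {w // w ∈ Ω}} {ρ : A4 → A4} (hσ : Lin σ ρ) {p n : ℕ} (hp : p.Prime) (hp6 : p ∣ 6)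
    (hpow : σ ^ p ^ n = 1) (h0 : ∀ f, qd f = c → ρ f = f → False) : ∀ a, σ a ≠ a := by
  intro a ha
  have : Fact p.Prime := ⟨hp⟩
  obtain ⟨b, hb, hne⟩ := Perm.exists_fixed_point_of_prime' (by rw [H.fcard]; exact hp6) hpow ha
  have h1 := hσ a b
  rw [ha, hb] at h1
  exact h0 _ (H.qd_sub a.2 b.2 fun h => hne (Subtype.ext h.symm)) h1.symm

/-! ### the group -/

variable {G : Subgroup (Perm {w // w ∈ Ω})} {al : Fin 4 → Perm {w // w ∈ Ω}}

/-- transitivity on pairs -/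
theorem Hex.two_trans (hG : ∀ σ ∈ G, ∃ ρ : A4 ≃+ A4, Lin σ ρ) (hal : ∀ i, al i ∈ G)
    (hlin : ∀ i, Lin (al i) fun f => f ᵥ* Rm i) {a b a' b' : {w // w ∈ Ω}} (h : a ≠ b) (h' : a' ≠ b') :
    ∃ σ ∈ G, σ a = a' ∧ σ b = b' := by
  have key := rel_of_qd (r := fun f f' => ∃ σ ∈ G, ∃ ρ : A4 ≃+ A4, Lin σ ρ ∧ ρ f = f') ⟨fun f => ⟨1, G.one_mem,
      AddEquiv.refl _, fun _ _ => rfl, rfl⟩, ?_, ?_⟩ ?_ (f := (b : A4) - a) (f' := (b' : A4) - a') ?_ ?_ ?_
  · obtain ⟨σ, hσ, ρ, hl, hρ⟩ := key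
    refine ⟨σ, hσ, ?_⟩
    have h1 := hl a b
    rw [hρ] at h1
    have hne : (b' : A4) - a' ≠ 0 := by
      rw [sub_ne_zero]
      intro h
      exact h' (Subtype.ext h.symm)
    have h2 : ((σ a : {w // w ∈ Ω}) : A4) = a' := H.unique hne (σ a).2 (by
      rw [← h1, add_sub_cancel]; exact (σ b).2) a'.2 (by rw [add_sub_cancel]; exact b'.2)
    refine ⟨Subtype.ext h2, Subtype.ext ?_⟩
    rw [h2] at h1
    exact sub_left_injective h1
  · rintro f f' ⟨σ, hσ, ρ, hl, hρ⟩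
    refine ⟨σ⁻¹, G.inv_mem hσ, ρ.symm, ?_, ?_⟩
    · intro w w'
      apply ρ.injective
      rw [AddEquiv.apply_symm_apply, ← hl, apinv, apinv]
    · rw [← hρ, AddEquiv.symm_apply_apply]
  · rintro f f' f'' ⟨σ, hσ, ρ, hl, hρ⟩ ⟨τ, hτ, ρ', hl', hρ'⟩
    refine ⟨τ * σ, G.mul_mem hτ hσ, ρ.trans ρ', hl'.mul hl, ?_⟩
    rw [AddEquiv.trans_apply, hρ, hρ']
  · intro i f
    obtain ⟨ρ, hρ⟩ := hG _ (hal i)
    -- `ρ` agrees with the letter on the differences; replace it by the letter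
    let e : A4 ≃+ A4 := AddEquiv.ofBijective
      ({ toFun := fun f => f ᵥ* Rm i
         map_zero' := Matrix.zero_vecMul _
         map_add' := fun f f' => Matrix.add_vecMul _ _ _ } : A4 →+ A4)
      (Finite.injective_iff_bijective.1 fun f f' h => Rm_inj i h)
    exact ⟨al i, hal i, e, hlin i, rfl⟩
  · rw [sub_ne_zero]
    intro h1
    exact h (Subtype.ext h1.symm)
  · rw [sub_ne_zero]
    intro h1
    exact h' (Subtype.ext h1.symm)
  · rw [H.qd_sub a.2 b.2 fun h1 => h (Subtype.ext h1), H.qd_sub a'.2 b'.2 fun h1 => h' (Subtype.ext h1)]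

theorem Hex.exists_three (hal : ∀ i, al i ∈ G) (hlin : ∀ i, Lin (al i) fun f => f ᵥ* Rm i) :
    (c = 2 ∧ (al 0).IsThreeCycle) ∨ (c = 1 ∧ (al 1 * al 0).IsThreeCycle) := by
  rcases H.hc with h | h
  · right
    refine ⟨h, H.isThreeCycle ((hlin 1).mul (hlin 0)) ?_⟩
    rw [h]
    exact fix_101
  · left
    refine ⟨h, H.isThreeCycle (hlin 0) ?_⟩
    rw [h]
    exact fix_20

theorem Hex.alt_le (hG : ∀ σ ∈ G, ∃ ρ : A4 ≃+ A4, Lin σ ρ) (hal : ∀ i, al i ∈ G)
    (hlin : ∀ i, Lin (al i) fun f => f ᵥ* Rm i) : alternatingGroup {w // w ∈ Ω} ≤ G := by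
  have h2 : MulAction.IsMultiplyPretransitive G {w // w ∈ Ω} 2 := by
    rw [MulAction.is_two_pretransitive_iff]
    intro a b c d hab hcd
    obtain ⟨σ, hσ, h1, h2⟩ := H.two_trans hG hal hlin hab hcd
    exact ⟨⟨σ, hσ⟩, h1, h2⟩
  have hp := MulAction.isPreprimitive_of_is_two_pretransitive h2
  rcases H.exists_three hal hlin with ⟨_, h⟩ | ⟨_, h⟩
  · exact Equiv.Perm.alternatingGroup_le_of_isPreprimitive_of_isThreeCycle_mem hp h (hal 0)
  · exact Equiv.Perm.alternatingGroup_le_of_isPreprimitive_of_isThreeCycle_mem hp h (G.mul_mem (hal 1) (hal 0))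

/-- the subgroup `D` is transitive -/
theorem Hex.trans_D {K : Subgroup (Perm {w // w ∈ Ω})} {be a0 a1 : Perm {w // w ∈ Ω}} (hbe : be ∈ K) (ha0 : a0 ∈ K)
    (ha1 : a1 ∈ K) (hlb : Lin be fun f => f ᵥ* RH) (hl0 : Lin a0 fun f => f ᵥ* Rm 0)
    (hl1 : Lin a1 fun f => f ᵥ* Rm 1) (hb4 : be ^ 4 = 1) (h03 : a0 ^ 3 = 1) (h13 : (a1 * a0) ^ 3 = 1)
    (a b : {w // w ∈ Ω}) : ∃ σ ∈ K, σ a = b := by
  classical
  have hb : ∀ w, be w ≠ w := H.no_fixed hlb (p := 2) (n := 2) Nat.prime_two (by norm_num) (by norm_num; exact hb4)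
    (fun f hf h => H.qd_ne hf (RH_fix f h))
  have h3 : ∃ τ ∈ K, τ ^ 3 = 1 ∧ ∀ w, τ w ≠ w := by
    rcases H.hc with h | h
    · refine ⟨a0, ha0, h03, H.no_fixed hl0 (p := 3) (n := 1) Nat.prime_three (by norm_num) (by norm_num; exact h03)
        fun f hf h1 => ?_⟩
      have h2 := fix_10
      rw [Finset.card_eq_zero, Finset.filter_eq_empty_iff] at h2
      exact h2 (Finset.mem_univ f) ⟨by rw [hf, h], h1⟩
    · refine ⟨a1 * a0, K.mul_mem ha1 ha0, h13, H.no_fixed (hl1.mul hl0) (p := 3) (n := 1) Nat.prime_three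
        (by norm_num) (by norm_num; exact h13) fun f hf h1 => ?_⟩
      have h2 := fix_201
      rw [Finset.card_eq_zero, Finset.filter_eq_empty_iff] at h2
      exact h2 (Finset.mem_univ f) ⟨by rw [hf, h], h1⟩
  obtain ⟨τ, hτ, hτ3, hτf⟩ := h3
  -- the orbit of `a`
  set O := {w : {w // w ∈ Ω} // ∃ σ ∈ K, σ a = w} with hO
  have hdvd : ∀ (σ : Perm {w // w ∈ Ω}) (p n : ℕ), p.Prime → σ ∈ K → σ ^ p ^ n = 1 → (∀ w, σ w ≠ w) →
      p ∣ Fintype.card O := by
    intro σ p n hp hσ hpow hfix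
    have : Fact p.Prime := ⟨hp⟩
    by_contra hnd
    have hiff : ∀ w, (∃ τ ∈ K, τ a = w) ↔ (∃ τ ∈ K, τ a = σ w) := by
      intro w
      constructor
      · rintro ⟨τ, hτ, rfl⟩
        exact ⟨σ * τ, K.mul_mem hσ hτ, rfl⟩
      · rintro ⟨τ, hτ, h⟩
        refine ⟨σ⁻¹ * τ, K.mul_mem (K.inv_mem hσ) hτ, ?_⟩
        rw [Perm.mul_apply, h, invap]
    let σ' : Perm O := σ.subtypePerm (fun w => (hiff w).symm)
    have hpow' : σ' ^ p ^ n = 1 := by
      rw [Perm.subtypePerm_pow]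
      simp only [hpow]
      exact Perm.subtypePerm_one _
    obtain ⟨w, hw⟩ := Perm.exists_fixed_point_of_prime hnd hpow'
    exact hfix w (congrArg Subtype.val hw)
  have h2 : 2 ∣ Fintype.card O := hdvd be 2 2 Nat.prime_two hbe (by norm_num; exact hb4) hb
  have h3 : 3 ∣ Fintype.card O := hdvd τ 3 1 Nat.prime_three hτ (by norm_num; exact hτ3) hτf
  have hpos : 0 < Fintype.card O := Fintype.card_pos_iff.2 ⟨⟨a, 1, K.one_mem, rfl⟩⟩
  have hle : Fintype.card O ≤ 6 := by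
    rw [← H.fcard]
    exact Fintype.card_subtype_le _
  have h6 : Fintype.card O = Fintype.card {w // w ∈ Ω} := by
    rw [H.fcard]
    omega
  by_contra hb'
  have h7 := Fintype.card_subtype_lt (p := fun w => ∃ σ ∈ K, σ a = w) hb'
  rw [← h6] at h7
  exact lt_irrefl _ h7

/-- faithfulness -/
theorem Hex.eq_of_lin {ρ : A4 ≃+ A4} {R : A4 → A4} (h1 : Lin (1 : Perm {w // w ∈ Ω}) ρ)
    (hR : ∀ f v : A4, ρ f ⬝ᵥ R v = f ⬝ᵥ v) (v : A4) : R v = v := by
  have h2 : ∀ f, qd f = c → ρ f = f := by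
    intro f hf
    obtain ⟨w, hw, hwf⟩ := H.exists_pair hf
    have h3 := h1 ⟨w, hw⟩ ⟨w + f, hwf⟩
    have h4 : ((1 : Perm {w // w ∈ Ω}) ⟨w + f, hwf⟩ : A4) - ((1 : Perm {w // w ∈ Ω}) ⟨w, hw⟩ : {w // w ∈ Ω}) = f := by
      change w + f - w = f
      rw [add_sub_cancel_left]
    rw [h4] at h3
    change f = ρ (w + f - w) at h3
    rw [add_sub_cancel_left] at h3
    exact h3.symm
  rw [← sub_eq_zero]
  have h5 : ∀ f, qd f = c → f ⬝ᵥ (R v - v) = 0 := by
    intro f hf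
    rw [dotProduct_sub, sub_eq_zero, ← hR f v, h2 f hf]
  rcases H.hc with h | h
  · exact span_q1 _ fun f hf => h5 f (by rw [hf, h])
  · exact span_q2 _ fun f hf => h5 f (by rw [hf, h])

/-- weights are separated by the hyperplane `v 3 = 0` -/
theorem Hex.separated {w w' : A4} (hw : w ∈ Ω) (hw' : w' ∈ Ω) (h : ∀ v : A4, v 3 = 0 → w ⬝ᵥ v = w' ⬝ᵥ v) : w = w' := by
  by_contra hne
  have h1 := H.qd_sub hw hw' hne
  apply H.c_ne
  rw [← h1]
  apply qd_last
  · have := h (Pi.single 0 1) (by decide)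
    rw [dotProduct_single_one, dotProduct_single_one] at this
    rw [Pi.sub_apply, this, sub_self]
  · have := h (Pi.single 1 1) (by decide)
    rw [dotProduct_single_one, dotProduct_single_one] at this
    rw [Pi.sub_apply, this, sub_self]
  · have := h (Pi.single 2 1) (by decide)
    rw [dotProduct_single_one, dotProduct_single_one] at this
    rw [Pi.sub_apply, this, sub_self]

/-- the vector conjugate to the three-cycle -/
def vc (c : ZMod 3) : A4 := if c = 2 then ![0, 1, 0, 0] else ![0, 1, 1, 0]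

/-- the distribution of `w · v` -/
theorem Hex.distrib : ∑ j : ZMod 3, (Finset.univ.filter fun w : {w // w ∈ Ω} => (w : A4) ⬝ᵥ vc c = j).card ^ 2 = 18 := by
  have h1 : (Finset.univ.filter fun p : {w // w ∈ Ω} × {w // w ∈ Ω} => p.1 ≠ p.2 ∧ ((p.2 : A4) - (p.1 : A4)) ⬝ᵥ vc c = 0).card = 12 := by
    rw [H.card_pairs fun f => f ⬝ᵥ vc c = 0]
    rcases H.hc with h | h
    · rw [h]; exact dot_1
    · rw [h]; exact dot_2
  have h2 : ∀ j : ZMod 3, (Finset.univ.filter fun w : {w // w ∈ Ω} => (w : A4) ⬝ᵥ vc c = j).card ^ 2 =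
      (Finset.univ.filter fun p : {w // w ∈ Ω} × {w // w ∈ Ω} => (p.1 : A4) ⬝ᵥ vc c = j ∧ (p.2 : A4) ⬝ᵥ vc c = j).card := by
    intro j
    rw [pow_two, ← Finset.card_product]
    congr 1
    ext ⟨a, b⟩
    simp [Finset.mem_product, Finset.mem_filter]
  rw [Finset.sum_congr rfl fun j _ => h2 j]
  have h3 : ∑ j : ZMod 3, (Finset.univ.filter fun p : {w // w ∈ Ω} × {w // w ∈ Ω} =>
      (p.1 : A4) ⬝ᵥ vc c = j ∧ (p.2 : A4) ⬝ᵥ vc c = j).card =
      (Finset.univ.filter fun p : {w // w ∈ Ω} × {w // w ∈ Ω} => ((p.2 : A4) - (p.1 : A4)) ⬝ᵥ vc c = 0).card := by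
    rw [Finset.card_eq_sum_card_fiberwise (f := fun p => (p.1 : A4) ⬝ᵥ vc c) (t := Finset.univ) (fun _ _ => Finset.mem_univ _)]
    refine Finset.sum_congr rfl fun j _ => ?_
    congr 1
    ext ⟨a, b⟩
    simp only [Finset.mem_filter, Finset.mem_univ, true_and, sub_dotProduct, sub_eq_zero]
    constructor
    · rintro ⟨h, h'⟩
      exact ⟨by rw [h, h'], h⟩
    · rintro ⟨h, h'⟩
      exact ⟨h', by rw [h, h']⟩
  rw [h3]
  have h4 : (Finset.univ.filter fun p : {w // w ∈ Ω} × {w // w ∈ Ω} => ((p.2 : A4) - (p.1 : A4)) ⬝ᵥ vc c = 0) =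
      (Finset.univ.filter fun p : {w // w ∈ Ω} × {w // w ∈ Ω} => p.1 ≠ p.2 ∧ ((p.2 : A4) - (p.1 : A4)) ⬝ᵥ vc c = 0) ∪
      (Finset.univ : Finset {w // w ∈ Ω}).image (fun a => (a, a)) := by
    ext ⟨a, b⟩
    simp only [Finset.mem_filter, Finset.mem_univ, true_and, Finset.mem_union, Finset.mem_image, Prod.mk.injEq]
    constructor
    · intro h
      by_cases hab : a = b
      · right; exact ⟨a, rfl, hab⟩
      · left; exact ⟨hab, h⟩
    · rintro (⟨_, h⟩ | ⟨w, rfl, rfl⟩)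
      · exact h
      · rw [sub_self, zero_dotProduct]
  rw [h4, Finset.card_union_of_disjoint, h1, Finset.card_image_of_injective, Finset.card_univ, H.fcard]
  · intro a b h
    exact congrArg Prod.fst h
  · rw [Finset.disjoint_left]
    rintro ⟨a, b⟩ h h'
    rw [Finset.mem_filter] at h
    obtain ⟨w, _, hw⟩ := Finset.mem_image.1 h'
    have e1 := congrArg Prod.fst hw
    have e2 := congrArg Prod.snd hw
    exact h.2.1 (e1.symm.trans e2)

end

end Cfsg.Agent.H918.U43
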