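import Cfsg.Agent.H918.U43.TCoord

/-!
# Combinatorics of the weights (helper918)

`Ω ⊆ F₃⁴` with at most 12 elements, invariant under four affine maps with linear parts the letters `Rm i`:
`Ω` is a point or has 6 elements, and the differences of pairs are the vectors with `q f = c`, each once.
-/

set_option autoImplicit false
set_option maxRecDepth 20000

namespace Cfsg.Agent.H918.U43

open Matrix

/-- the dual quadratic form -/
def qd (f : A4) : ZMod 3 := f 0 * f 3 - f 1 * f 1 - f 2 * f 2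

def tab : List ℕ :=
  [4,4,0,2,0,2,0,0,1,1,1,3,2,0,1,0,0,0,1,1,1,0,0,1,2,3,0,3,4,1,0,0,2,0,0,2,1,1,1,0,0,2,1,0,2,1,1,3,2,0,3,2,0,2,2,4,
    0,2,0,1,2,0,1,3,1,0,3,0,0,2,0,2,3,1,0,1,0,0,2,0,2]

def nxt (f : A4) : ℕ := tab.getD ((f 0).val + 3 * (f 1).val + 9 * (f 2).val + 27 * (f 3).val) 4

def stp (f : A4) : A4 := if h : nxt f < 4 then f ᵥ* Rm ⟨nxt f, h⟩ else f

def bas (c : ZMod 3) : A4 := ![1, 0, 0, c]

theorem forall_A4 {p : A4 → Prop} (h : ∀ a b c d : ZMod 3, p ![a, b, c, d]) (f : A4) : p f := by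
  rw [vec4 f]; exact h _ _ _ _

theorem stp_four : ∀ f : A4, f ≠ 0 → stp (stp (stp (stp f))) = bas (qd f) :=
  forall_A4 (by decide +kernel)

theorem qd_Rm (i : Fin 4) : ∀ f : A4, qd (f ᵥ* Rm i) = qd f :=
  forall_A4 (by revert i; decide +kernel)

/-- induction over the classes -/
theorem rel_bas {r : A4 → A4 → Prop} (hr : Equivalence r) (h : ∀ i f, r f (f ᵥ* Rm i)) {f : A4} (hf : f ≠ 0) :
    r f (bas (qd f)) := by
  have h1 : ∀ f, r f (stp f) := by
    intro f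
    unfold stp
    by_cases h2 : nxt f < 4
    · rw [dif_pos h2]; exact h _ _
    · rw [dif_neg h2]; exact hr.refl _
  rw [← stp_four f hf]
  exact hr.trans (h1 _) (hr.trans (h1 _) (hr.trans (h1 _) (h1 _)))

theorem rel_of_qd {r : A4 → A4 → Prop} (hr : Equivalence r) (h : ∀ i f, r f (f ᵥ* Rm i)) {f f' : A4} (hf : f ≠ 0)
    (hf' : f' ≠ 0) (hq : qd f = qd f') : r f f' := by
  have h1 := rel_bas hr h hf
  rw [hq] at h1
  exact hr.trans h1 (hr.symm (rel_bas hr h hf'))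

/-! ### finite checks -/

theorem card_q0 : (Finset.univ.filter fun f : A4 => f ≠ 0 ∧ qd f = 0).card = 20 := by decide +kernel
theorem card_q1 : (Finset.univ.filter fun f : A4 => f ≠ 0 ∧ qd f = 1).card = 30 := by decide +kernel
theorem card_q2 : (Finset.univ.filter fun f : A4 => f ≠ 0 ∧ qd f = 2).card = 30 := by decide +kernel

theorem RH_fix : ∀ f : A4, f ᵥ* RH = f → f = 0 := forall_A4 (by decide +kernel)

theorem fix_20 : (Finset.univ.filter fun f : A4 => qd f = 2 ∧ f ᵥ* Rm 0 = f).card = 6 := by decide +kernel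
theorem fix_101 : (Finset.univ.filter fun f : A4 => qd f = 1 ∧ (f ᵥ* Rm 0) ᵥ* Rm 1 = f).card = 6 := by decide +kernel
theorem fix_10 : (Finset.univ.filter fun f : A4 => qd f = 1 ∧ f ᵥ* Rm 0 = f).card = 0 := by decide +kernel
theorem fix_201 : (Finset.univ.filter fun f : A4 => qd f = 2 ∧ (f ᵥ* Rm 0) ᵥ* Rm 1 = f).card = 0 := by decide +kernel

theorem dot_2 : (Finset.univ.filter fun f : A4 => qd f = 2 ∧ f ⬝ᵥ ![0, 1, 0, 0] = 0).card = 12 := by decide +kernel
theorem dot_1 : (Finset.univ.filter fun f : A4 => qd f = 1 ∧ f ⬝ᵥ ![0, 1, 1, 0] = 0).card = 12 := by decide +kernel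

theorem span_q1 : ∀ v : A4, (∀ f : A4, qd f = 1 → f ⬝ᵥ v = 0) → v = 0 := forall_A4 (by decide +kernel)
theorem span_q2 : ∀ v : A4, (∀ f : A4, qd f = 2 → f ⬝ᵥ v = 0) → v = 0 := forall_A4 (by decide +kernel)

theorem qd_last : ∀ f : A4, f 0 = 0 → f 1 = 0 → f 2 = 0 → qd f = 0 := by
  intro f h0 h1 h2
  unfold qd
  rw [h0, h1, h2]; simp

theorem Rm_inj (i : Fin 4) {f f' : A4} (h : f ᵥ* Rm i = f' ᵥ* Rm i) : f = f' := by
  have hinv : ∃ R' : Matrix (Fin 4) (Fin 4) (ZMod 3), Rm i * R' = 1 := by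
    fin_cases i
    · exact ⟨RU 2 0, by decide +kernel⟩
    · exact ⟨RU 0 2, by decide +kernel⟩
    · exact ⟨RL 2 0, by decide +kernel⟩
    · exact ⟨RL 0 2, by decide +kernel⟩
  obtain ⟨R', hR⟩ := hinv
  have h1 := congrArg (fun z => z ᵥ* R') h
  simp only [Matrix.vecMul_vecMul, hR, Matrix.vecMul_one] at h1
  exact h1

/-! ### invariant sets -/

section inv

variable {Ω : Finset A4} {t : Fin 4 → A4}

/-- the number of pairs with a given difference -/
def Nd (Ω : Finset A4) (f : A4) : ℕ := (Ω.filter fun w => w + f ∈ Ω).card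

/-- the affine map -/
def Ph (t : Fin 4 → A4) (i : Fin 4) (w : A4) : A4 := w ᵥ* Rm i + t i

theorem Ph_inj (i : Fin 4) : Function.Injective (Ph t i) := by
  intro w w' h
  unfold Ph at h
  exact Rm_inj i (add_right_cancel h)

theorem Ph_add (i : Fin 4) (w f : A4) : Ph t i (w + f) = Ph t i w + f ᵥ* Rm i := by
  unfold Ph
  rw [Matrix.add_vecMul, add_right_comm]

theorem image_Ph (hΩ : ∀ i, ∀ w ∈ Ω, Ph t i w ∈ Ω) (i : Fin 4) : Ω.image (Ph t i) = Ω := by
  apply Finset.eq_of_subset_of_card_le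
  · intro w hw
    obtain ⟨u, hu, rfl⟩ := Finset.mem_image.1 hw
    exact hΩ i u hu
  · rw [Finset.card_image_of_injective _ (Ph_inj i)]

theorem Ph_mem_iff (hΩ : ∀ i, ∀ w ∈ Ω, Ph t i w ∈ Ω) (i : Fin 4) (w : A4) : Ph t i w ∈ Ω ↔ w ∈ Ω := by
  constructor
  · intro h
    rw [← image_Ph hΩ i] at h
    obtain ⟨u, hu, he⟩ := Finset.mem_image.1 h
    rwa [← Ph_inj i he]
  · exact hΩ i w

theorem Nd_Rm (hΩ : ∀ i, ∀ w ∈ Ω, Ph t i w ∈ Ω) (i : Fin 4) (f : A4) : Nd Ω f = Nd Ω (f ᵥ* Rm i) := by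
  unfold Nd
  refine Finset.card_bij (fun w _ => Ph t i w) ?_ ?_ ?_
  · intro w hw
    rw [Finset.mem_filter] at hw ⊢
    rw [← Ph_add]
    exact ⟨hΩ i _ hw.1, hΩ i _ hw.2⟩
  · intro w _ w' _ h
    exact Ph_inj i h
  · intro w hw
    rw [Finset.mem_filter] at hw
    have h1 := hw.1
    rw [← image_Ph hΩ i] at h1
    obtain ⟨u, hu, he⟩ := Finset.mem_image.1 h1
    refine ⟨u, ?_, he⟩
    rw [Finset.mem_filter]
    refine ⟨hu, ?_⟩
    rw [← Ph_mem_iff hΩ i, Ph_add, he]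
    exact hw.2

theorem Nd_eq (hΩ : ∀ i, ∀ w ∈ Ω, Ph t i w ∈ Ω) {f : A4} (hf : f ≠ 0) : Nd Ω f = Nd Ω (bas (qd f)) := by
  refine rel_bas (r := fun f f' => Nd Ω f = Nd Ω f') ⟨fun _ => rfl, fun h => h.symm, fun h h' => h.trans h'⟩ ?_ hf
  intro i f
  exact Nd_Rm hΩ i f

/-- a fixed point -/
theorem sub_of_fixed (hΩ : ∀ i, ∀ w ∈ Ω, Ph t i w ∈ Ω) (hc : Ω.card ≤ 12) {s : A4} (hs : ∀ i, Ph t i s = s) :
    Ω ⊆ {s} := by
  intro w hw
  rw [Finset.mem_singleton]
  by_contra hne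
  have hf : w - s ≠ 0 := sub_ne_zero.2 hne
  have key : ∀ f' : A4, f' ≠ 0 → qd f' = qd (w - s) → s + f' ∈ Ω := by
    intro f' hf' hq
    have h1 := rel_of_qd (r := fun f f' => (s + f ∈ Ω ↔ s + f' ∈ Ω)) ⟨fun _ => Iff.rfl, fun h => h.symm, fun h h' => h.trans h'⟩
      (fun i f => by
        rw [← Ph_mem_iff hΩ i (s + f), Ph_add, hs i]) hf hf' hq.symm
    apply h1.1
    rwa [add_sub_cancel]
  have hcard : (Finset.univ.filter fun f : A4 => f ≠ 0 ∧ qd f = qd (w - s)).card ≤ Ω.card := by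
    refine Finset.card_le_card_of_injOn (fun f => s + f) ?_ ?_
    · intro f hf
      rw [Finset.mem_coe, Finset.mem_filter] at hf
      exact key f hf.2.1 hf.2.2
    · intro f _ f' _ h
      exact add_left_cancel h
  have h3 : ∀ c : ZMod 3, 20 ≤ (Finset.univ.filter fun f : A4 => f ≠ 0 ∧ qd f = c).card := by
    intro c
    have : c = 0 ∨ c = 1 ∨ c = 2 := by revert c; decide
    rcases this with rfl | rfl | rfl
    · rw [card_q0]
    · rw [card_q1]; norm_num
    · rw [card_q2]; norm_num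
  have := h3 (qd (w - s))
  omega

theorem sum_Nd : ∑ f : A4, Nd Ω f = Ω.card * Ω.card := by
  unfold Nd
  rw [← Finset.card_product]
  have h1 : ∀ f : A4, (Ω.filter fun w => w + f ∈ Ω).card =
      ((Ω ×ˢ Ω).filter fun p => p.2 - p.1 = f).card := by
    intro f
    refine Finset.card_bij (fun w _ => (w, w + f)) ?_ ?_ ?_
    · intro w hw
      rw [Finset.mem_filter] at hw ⊢
      exact ⟨Finset.mem_product.2 hw, by rw [add_sub_cancel_left]⟩
    · intro w _ w' _ h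
      exact congrArg Prod.fst h
    · rintro ⟨a, b⟩ hp
      rw [Finset.mem_filter, Finset.mem_product] at hp
      refine ⟨a, ?_, ?_⟩
      · rw [Finset.mem_filter]
        refine ⟨hp.1.1, ?_⟩
        rw [← hp.2, add_sub_cancel]
        exact hp.1.2
      · rw [← hp.2, add_sub_cancel]
  rw [Finset.sum_congr rfl fun f _ => h1 f]
  exact (Finset.card_eq_sum_card_fiberwise (fun p _ => Finset.mem_univ _)).symm

theorem sum_Nd' (hΩ : ∀ i, ∀ w ∈ Ω, Ph t i w ∈ Ω) :
    Ω.card * Ω.card = Ω.card + 20 * Nd Ω (bas 0) + 30 * Nd Ω (bas 1) + 30 * Nd Ω (bas 2) := by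
  rw [← sum_Nd]
  have hsplit : (Finset.univ : Finset A4) = {0} ∪ ((Finset.univ.filter fun f : A4 => f ≠ 0 ∧ qd f = 0) ∪
      ((Finset.univ.filter fun f : A4 => f ≠ 0 ∧ qd f = 1) ∪ (Finset.univ.filter fun f : A4 => f ≠ 0 ∧ qd f = 2))) := by
    ext f
    simp only [Finset.mem_univ, Finset.mem_union, Finset.mem_singleton, Finset.mem_filter, true_and, true_iff]
    by_cases hf : f = 0
    · left; exact hf
    · right
      have : ∀ c : ZMod 3, c = 0 ∨ c = 1 ∨ c = 2 := by decide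
      rcases this (qd f) with h | h | h
      · left; exact ⟨hf, h⟩
      · right; left; exact ⟨hf, h⟩
      · right; right; exact ⟨hf, h⟩
  rw [hsplit, Finset.sum_union, Finset.sum_union, Finset.sum_union, Finset.sum_singleton]
  · have hc : ∀ c : ZMod 3, ∑ f ∈ Finset.univ.filter (fun f : A4 => f ≠ 0 ∧ qd f = c), Nd Ω f =
        (Finset.univ.filter fun f : A4 => f ≠ 0 ∧ qd f = c).card * Nd Ω (bas c) := by
      intro c
      rw [Finset.sum_congr rfl (g := fun _ => Nd Ω (bas c)), Finset.sum_const, smul_eq_mul]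
      intro f hf
      rw [Finset.mem_filter] at hf
      rw [Nd_eq hΩ hf.2.1, hf.2.2]
    rw [hc, hc, hc, card_q0, card_q1, card_q2]
    have h0 : Nd Ω 0 = Ω.card := by
      unfold Nd
      congr 1
      rw [Finset.filter_eq_self]
      intro w hw
      rwa [add_zero]
    rw [h0]
    ring
  · rw [Finset.disjoint_filter]
    rintro f _ ⟨_, h1⟩ ⟨_, h2⟩
    rw [h1] at h2
    exact absurd h2 (by decide)
  · rw [Finset.disjoint_union_right]
    constructor
    · rw [Finset.disjoint_filter]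
      rintro f _ ⟨_, h1⟩ ⟨_, h2⟩
      rw [h1] at h2
      exact absurd h2 (by decide)
    · rw [Finset.disjoint_filter]
      rintro f _ ⟨_, h1⟩ ⟨_, h2⟩
      rw [h1] at h2
      exact absurd h2 (by decide)
  · rw [Finset.disjoint_singleton_left]
    simp

/-- **Shape of the set of weights.** -/
theorem shape (hΩ : ∀ i, ∀ w ∈ Ω, Ph t i w ∈ Ω) (hc : Ω.card ≤ 12) :
    (∃ s, Ω ⊆ {s}) ∨ (Ω.card = 6 ∧ ∃ c : ZMod 3, (c = 1 ∨ c = 2) ∧ ∀ f, f ≠ 0 → Nd Ω f = if qd f = c then 1 else 0) := by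
  by_cases h3 : ((Ω.card : ℕ) : ZMod 3) = 0
  · -- `3 ∣ |Ω|`
    rw [ZMod.natCast_eq_zero_iff] at h3
    have h := sum_Nd' hΩ
    set k := Ω.card with hk
    obtain ⟨j, hj⟩ := h3
    have hj4 : j ≤ 4 := by omega
    have hcases : k = 0 ∨ k = 6 := by
      interval_cases j
      · left; omega
      · exfalso; rw [hj] at h; omega
      · right; omega
      · exfalso; rw [hj] at h; omega
      · exfalso; rw [hj] at h; omega
    rcases hcases with h0 | h6
    · left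
      refine ⟨0, ?_⟩
      rw [hk, Finset.card_eq_zero] at h0
      rw [h0]
      exact Finset.empty_subset _
    · right
      refine ⟨h6, ?_⟩
      rw [h6] at h
      have ha : Nd Ω (bas 0) = 0 := by omega
      have hbc : (Nd Ω (bas 1) = 1 ∧ Nd Ω (bas 2) = 0) ∨ (Nd Ω (bas 1) = 0 ∧ Nd Ω (bas 2) = 1) := by omega
      have h012 : ∀ c : ZMod 3, c = 0 ∨ c = 1 ∨ c = 2 := by decide
      rcases hbc with ⟨hb, hc'⟩ | ⟨hb, hc'⟩
      · refine ⟨1, Or.inl rfl, fun f hf => ?_⟩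
        rw [Nd_eq hΩ hf]
        rcases h012 (qd f) with h | h | h
        · rw [h, ha]; rfl
        · rw [h, hb]; rfl
        · rw [h, hc']; rfl
      · refine ⟨2, Or.inr rfl, fun f hf => ?_⟩
        rw [Nd_eq hΩ hf]
        rcases h012 (qd f) with h | h | h
        · rw [h, ha]; rfl
        · rw [h, hb]; rfl
        · rw [h, hc']; rfl
  · -- the centroid
    left
    set u : ZMod 3 := ((Ω.card : ℕ) : ZMod 3) with hu
    set σ : A4 := ∑ w ∈ Ω, w with hσ
    refine ⟨u⁻¹ • σ, sub_of_fixed hΩ hc fun i => ?_⟩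
    have h1 : ∑ w ∈ Ω, Ph t i w = σ := by
      have h2 : ∑ w ∈ Ω.image (Ph t i), w = ∑ w ∈ Ω, Ph t i w := Finset.sum_image fun w _ w' _ h => Ph_inj i h
      rw [← h2, image_Ph hΩ i]
    have h2 : ∑ w ∈ Ω, Ph t i w = σ ᵥ* Rm i + u • t i := by
      unfold Ph
      rw [Finset.sum_add_distrib, Finset.sum_const, hσ, Matrix.sum_vecMul, hu, Nat.cast_smul_eq_nsmul]
    have h3' : σ ᵥ* Rm i + u • t i = σ := by rw [← h2, h1]
    unfold Ph
    rw [Matrix.smul_vecMul]
    have h4 : u⁻¹ • (σ ᵥ* Rm i + u • t i) = u⁻¹ • σ := by rw [h3']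
    have : Fact (Nat.Prime 3) := ⟨by norm_num⟩
    rwa [smul_add, smul_smul, inv_mul_cancel₀ h3, one_smul] at h4

end inv

end Cfsg.Agent.H918.U43
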