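import Cfsg.Agent.H918.U43.TGrp

/-!
# Lifting the radical `3⁴` to a central extension (helper918)
-/

set_option autoImplicit false
set_option maxRecDepth 20000

namespace Cfsg.Agent.H918.U43

open Matrix
open scoped commutatorElement IsMulCommutative

universe u v

section bilin

variable {C : Type v} [AddCommGroup C]

theorem hom_eq_zero {f : A4 →+ C} (h : ∀ i, f (Pi.single i 1) = 0) : f = 0 := by
  refine AddMonoidHom.ext fun v => ?_
  have h1 : v = ∑ i, (v i).val • (Pi.single i (1 : ZMod 3) : A4) := by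
    funext j
    rw [Finset.sum_apply, Finset.sum_eq_single j]
    · rw [Pi.smul_apply, Pi.single_eq_same, nsmul_eq_mul, mul_one, ZMod.natCast_val, ZMod.cast_id', id]
    · intro i _ hij
      rw [Pi.smul_apply, Pi.single_eq_of_ne hij.symm, smul_zero]
    · intro h; exact absurd (Finset.mem_univ _) h
  rw [h1, map_sum]
  refine Finset.sum_eq_zero fun i _ => ?_
  rw [map_nsmul, h i, smul_zero]

theorem three_torsion (f : A4 →+ C) (v : A4) : f v + f v + f v = 0 := by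
  rw [← map_add, ← map_add]
  have h : v + v + v = 0 := by
    refine funext fun i => ?_
    have : ∀ a : ZMod 3, a + a + a = 0 := by decide
    exact this (v i)
  rw [h, map_zero]

/-- An alternating form invariant under `RH` and `Rm 0` is zero. -/
theorem form_eq_zero (B : A4 →+ A4 →+ C) (halt : ∀ v, B v v = 0) (hH : ∀ v w, B (RH *ᵥ v) (RH *ᵥ w) = B v w)
    (hR : ∀ v w, B (Rm 0 *ᵥ v) (Rm 0 *ᵥ w) = B v w) : B = 0 := by
  have hsk : ∀ v w, B v w = - B w v := by
    intro v w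
    have h1 := halt (v + w)
    simp only [map_add, AddMonoidHom.add_apply] at h1
    rw [halt, halt, zero_add, add_zero, add_comm] at h1
    exact eq_neg_of_add_eq_zero_left h1
  have two : ∀ v w, B v w = - B v w → B v w = 0 := by
    intro v w h
    have h1 := three_torsion (B v) w
    have h2 : B v w + B v w = 0 := by nth_rw 2 [h]; rw [add_neg_cancel]
    rwa [h2, zero_add] at h1
  set e0 : A4 := Pi.single 0 1 with he0
  set e1 : A4 := Pi.single 1 1 with he1
  set e2 : A4 := Pi.single 2 1 with he2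
  set e3 : A4 := Pi.single 3 1 with he3
  have H0 : RH *ᵥ e0 = -e0 := by rw [he0]; decide +kernel
  have H1 : RH *ᵥ e1 = e2 := by rw [he1, he2]; decide +kernel
  have H2 : RH *ᵥ e2 = -e1 := by rw [he1, he2]; decide +kernel
  have H3 : RH *ᵥ e3 = -e3 := by rw [he3]; decide +kernel
  have R1 : Rm 0 *ᵥ e1 = -e0 + e1 := by rw [he0, he1]; decide +kernel
  have R2 : Rm 0 *ᵥ e2 = e2 := by rw [he2]; decide +kernel
  have R3 : Rm 0 *ᵥ e3 = e0 + e1 + e3 := by rw [he0, he1, he3]; decide +kernel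
  have b01' : B e0 e1 = - B e0 e2 := by
    have h := hH e0 e1
    rw [H0, H1, map_neg, AddMonoidHom.neg_apply] at h
    exact h.symm
  have b02' : B e0 e2 = B e0 e1 := by
    have h := hH e0 e2
    rw [H0, H2] at h
    simp only [map_neg, AddMonoidHom.neg_apply, neg_neg] at h
    exact h.symm
  have b01 : B e0 e1 = 0 := two _ _ (by nth_rw 1 [b01']; rw [b02'])
  have b02 : B e0 e2 = 0 := by rw [b02', b01]
  have b13' : B e1 e3 = - B e2 e3 := by
    have h := hH e1 e3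
    rw [H1, H3, map_neg] at h
    exact h.symm
  have b23' : B e2 e3 = B e1 e3 := by
    have h := hH e2 e3
    rw [H2, H3] at h
    simp only [map_neg, AddMonoidHom.neg_apply, neg_neg] at h
    exact h.symm
  have b13 : B e1 e3 = 0 := two _ _ (by nth_rw 1 [b13']; rw [b23'])
  have b23 : B e2 e3 = 0 := by rw [b23', b13]
  have b03 : B e0 e3 = 0 := by
    have h := hR e1 e3
    rw [R1, R3] at h
    simp only [map_add, map_neg, AddMonoidHom.add_apply, AddMonoidHom.neg_apply] at h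
    rw [halt, halt, b01, hsk e1 e0, b01, b13] at h
    simp only [neg_zero, add_zero, zero_add, neg_eq_zero] at h
    exact h
  have b12 : B e1 e2 = 0 := by
    have h := hR e2 e3
    rw [R2, R3] at h
    simp only [map_add] at h
    rw [hsk e2 e0, b02, b23, neg_zero, zero_add, add_zero] at h
    rw [hsk, h, neg_zero]
  apply hom_eq_zero
  intro i
  apply hom_eq_zero
  intro j
  fin_cases i <;> fin_cases j
  · exact halt _
  · exact b01
  · exact b02
  · exact b03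
  · exact (hsk _ _).trans (by rw [show B (Pi.single (⟨0, _⟩ : Fin 4) 1) (Pi.single (⟨1, _⟩ : Fin 4) 1) = 0 from b01, neg_zero])
  · exact halt _
  · exact b12
  · exact b13
  · exact (hsk _ _).trans (by rw [show B (Pi.single (⟨0, _⟩ : Fin 4) 1) (Pi.single (⟨2, _⟩ : Fin 4) 1) = 0 from b02, neg_zero])
  · exact (hsk _ _).trans (by rw [show B (Pi.single (⟨1, _⟩ : Fin 4) 1) (Pi.single (⟨2, _⟩ : Fin 4) 1) = 0 from b12, neg_zero])
  · exact halt _
  · exact b23
  · exact (hsk _ _).trans (by rw [show B (Pi.single (⟨0, _⟩ : Fin 4) 1) (Pi.single (⟨3, _⟩ : Fin 4) 1) = 0 from b03, neg_zero])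
  · exact (hsk _ _).trans (by rw [show B (Pi.single (⟨1, _⟩ : Fin 4) 1) (Pi.single (⟨3, _⟩ : Fin 4) 1) = 0 from b13, neg_zero])
  · exact (hsk _ _).trans (by rw [show B (Pi.single (⟨2, _⟩ : Fin 4) 1) (Pi.single (⟨3, _⟩ : Fin 4) 1) = 0 from b23, neg_zero])
  · exact halt _

theorem form_eq_one {C : Type v} [CommGroup C] (b : A4 → A4 → C) (h1 : ∀ v v' w, b (v + v') w = b v w * b v' w)
    (h2 : ∀ v w w', b v (w + w') = b v w * b v w') (halt : ∀ v, b v v = 1)
    (hH : ∀ v w, b (RH *ᵥ v) (RH *ᵥ w) = b v w) (hR : ∀ v w, b (Rm 0 *ᵥ v) (Rm 0 *ᵥ w) = b v w) (v w : A4) :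
    b v w = 1 := by
  let B : A4 →+ A4 →+ Additive C :=
    AddMonoidHom.mk' (fun v => AddMonoidHom.mk' (fun w => Additive.ofMul (b v w)) (fun w w' => h2 v w w'))
      (fun v v' => AddMonoidHom.ext fun w => h1 v v' w)
  have hB : B = 0 := form_eq_zero B (fun v => halt v) (fun v w => hH v w) (fun v w => hR v w)
  have h1 : B v w = 0 := by rw [hB]; rfl
  exact h1

end bilin

/-! ### commutators modulo the centre -/

section central

variable {P : Type u} [Group P] {T : Type v} [Group T] {π : P →* T}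

theorem comm_congr (hc : π.ker ≤ Subgroup.center P) {a a' b b' : P} (ha : π a = π a') (hb : π b = π b') :
    ⁅a, b⁆ = ⁅a', b'⁆ := by
  have h1 : a'⁻¹ * a ∈ Subgroup.center P := hc (by rw [MonoidHom.mem_ker, map_mul, map_inv, ha, inv_mul_cancel])
  have h2 : b'⁻¹ * b ∈ Subgroup.center P := hc (by rw [MonoidHom.mem_ker, map_mul, map_inv, hb, inv_mul_cancel])
  obtain ⟨z, hz, rfl⟩ : ∃ z ∈ Subgroup.center P, a = a' * z := ⟨_, h1, by group⟩
  obtain ⟨w, hw, rfl⟩ : ∃ z ∈ Subgroup.center P, b = b' * z := ⟨_, h2, by group⟩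
  rw [Subgroup.mem_center_iff] at hz hw
  rw [commutatorElement_def, commutatorElement_def]
  have e1 : (a' * z) * (b' * w) * (a' * z)⁻¹ * (b' * w)⁻¹ = a' * b' * (z * w * z⁻¹ * w⁻¹) * a'⁻¹ * b'⁻¹ := by
    have k1 : z * b' = b' * z := (hz b').symm
    have k2 : (a' * z)⁻¹ = z⁻¹ * a'⁻¹ := by group
    have k3 : (b' * w)⁻¹ = w⁻¹ * b'⁻¹ := by group
    have k4 : a'⁻¹ * w⁻¹ = w⁻¹ * a'⁻¹ := by
      have := hw a'
      rw [← _root_.mul_inv_rev, ← _root_.mul_inv_rev, this]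
    rw [k2, k3]
    calc a' * z * (b' * w) * (z⁻¹ * a'⁻¹) * (w⁻¹ * b'⁻¹) = a' * (z * b') * w * z⁻¹ * (a'⁻¹ * w⁻¹) * b'⁻¹ := by group
      _ = a' * b' * (z * w * z⁻¹ * w⁻¹) * a'⁻¹ * b'⁻¹ := by rw [k1, k4]; group
  have e2 : z * w * z⁻¹ * w⁻¹ = 1 := by rw [hw z]; group
  rw [e1, e2, mul_one]

theorem comm_mem_center (hc : π.ker ≤ Subgroup.center P) {a b : P} (h : π a * π b = π b * π a) :
    ⁅a, b⁆ ∈ Subgroup.center P := by
  apply hc
  rw [MonoidHom.mem_ker, map_commutatorElement, commutatorElement_eq_one_iff_mul_comm, h]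

theorem comm_mul_left {a b c : P} (h : ⁅b, c⁆ ∈ Subgroup.center P) : ⁅a * b, c⁆ = ⁅a, c⁆ * ⁅b, c⁆ := by
  rw [Subgroup.mem_center_iff] at h
  have e : ⁅a * b, c⁆ = a * ⁅b, c⁆ * a⁻¹ * ⁅a, c⁆ := by
    rw [commutatorElement_def, commutatorElement_def, commutatorElement_def]; group
  rw [e, h a]
  rw [mul_inv_cancel_right]
  exact (h _).symm

theorem comm_mul_right {a b c : P} (h : ⁅a, c⁆ * b = b * ⁅a, c⁆) : ⁅a, b * c⁆ = ⁅a, b⁆ * ⁅a, c⁆ := by
  have e : ⁅a, b * c⁆ = ⁅a, b⁆ * (b * ⁅a, c⁆ * b⁻¹) := by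
    rw [commutatorElement_def, commutatorElement_def, commutatorElement_def]; group
  rw [e, ← h, mul_inv_cancel_right]

/-- `(RH - 1)⁻¹` -/
def SH : Matrix (Fin 4) (Fin 4) (ZMod 3) := !![1, 0, 0, 0; 0, 1, 2, 0; 0, 1, 1, 0; 0, 0, 0, 1]

theorem SH_spec (v : A4) : RH *ᵥ (SH *ᵥ v) - SH *ᵥ v = v := by
  have h : RH * SH - SH = 1 := by decide +kernel
  rw [Matrix.mulVec_mulVec, ← Matrix.sub_mulVec, h, Matrix.one_mulVec]

/-- **The radical lifts.** -/
theorem exists_lift (D : TD T) (hs : Function.Surjective π) (hc : π.ker ≤ Subgroup.center P) :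
    ∃ X : A4 → P, (∀ v w, X (v + w) = X v * X w) ∧ ∀ v, π (X v) = D.x v := by
  choose Y hY using fun v => hs (D.x v)
  obtain ⟨h, hh⟩ := hs D.h
  obtain ⟨a, ha⟩ := hs (D.a 0)
  have hcomm : ∀ v w, π (Y v) * π (Y w) = π (Y w) * π (Y v) := fun v w => by
    rw [hY, hY, ← D.x_add, ← D.x_add, add_comm]
  have hcen : ∀ v w, ⁅Y v, Y w⁆ ∈ Subgroup.center P := fun v w => comm_mem_center hc (hcomm v w)
  have hadd : ∀ v v' w, ⁅Y (v + v'), Y w⁆ = ⁅Y v, Y w⁆ * ⁅Y v', Y w⁆ := by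
    intro v v' w
    rw [← comm_mul_left (hcen v' w)]
    apply comm_congr hc _ rfl
    rw [hY, map_mul, hY, hY, D.x_add]
  have hadd' : ∀ v w w', ⁅Y v, Y (w + w')⁆ = ⁅Y v, Y w⁆ * ⁅Y v, Y w'⁆ := by
    intro v w w'
    rw [← comm_mul_right ((Subgroup.mem_center_iff.1 (hcen v w') (Y w)).symm)]
    apply comm_congr hc rfl
    rw [hY, map_mul, hY, hY, D.x_add]
  have hinv : ∀ (m : P) (R : A4 → A4), (∀ v, π m * D.x v * (π m)⁻¹ = D.x (R v)) →
      ∀ v w, ⁅Y (R v), Y (R w)⁆ = ⁅Y v, Y w⁆ := by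
    intro m R hR v w
    have h1 : ⁅Y (R v), Y (R w)⁆ = ⁅m * Y v * m⁻¹, m * Y w * m⁻¹⁆ := by
      apply comm_congr hc
      · rw [hY, map_mul, map_mul, map_inv, hY, hR]
      · rw [hY, map_mul, map_mul, map_inv, hY, hR]
    have h2 : ⁅m * Y v * m⁻¹, m * Y w * m⁻¹⁆ = m * ⁅Y v, Y w⁆ * m⁻¹ := by
      rw [commutatorElement_def, commutatorElement_def]; group
    rw [h1, h2, Subgroup.mem_center_iff.1 (hcen v w) m, mul_inv_cancel_right]
  -- the form
  have key : ∀ v w, ⁅Y v, Y w⁆ = 1 := by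
    intro v w
    have h1 := form_eq_one (C := Subgroup.center P) (fun v w => ⟨⁅Y v, Y w⁆, hcen v w⟩)
      (fun v v' w => Subtype.ext (hadd v v' w)) (fun v w w' => Subtype.ext (hadd' v w w'))
      (fun v => Subtype.ext (commutatorElement_self _))
      (fun v w => Subtype.ext (hinv h _ (fun v => by rw [hh]; exact D.act_h v) v w))
      (fun v w => Subtype.ext (hinv a _ (fun v => by rw [ha]; exact D.act_a 0 v) v w)) v w
    exact congrArg Subtype.val h1
  have hcomm' : ∀ (p q : P) (v w : A4), π p = D.x v → π q = D.x w → p * q = q * p := by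
    intro p q v w hp hq
    rw [← commutatorElement_eq_one_iff_mul_comm, ← key v w]
    exact comm_congr hc (by rw [hp, hY]) (by rw [hq, hY])
  have hX : ∀ v, π ⁅h, Y (SH *ᵥ v)⁆ = D.x v := by
    intro v
    rw [map_commutatorElement, commutatorElement_def, hh, hY, D.act_h]
    have h1 : D.x (RH *ᵥ (SH *ᵥ v)) = D.x v * D.x (SH *ᵥ v) := by
      rw [← D.x_add]
      congr 1
      rw [← sub_eq_iff_eq_add, SH_spec]
    rw [h1, mul_inv_cancel_right]
  refine ⟨fun v => ⁅h, Y (SH *ᵥ v)⁆, fun v w => ?_, hX⟩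
  change ⁅h, Y (SH *ᵥ (v + w))⁆ = ⁅h, Y (SH *ᵥ v)⁆ * ⁅h, Y (SH *ᵥ w)⁆
  rw [← comm_mul_right (hcomm' _ _ w (SH *ᵥ v) (hX w) (hY _))]
  apply comm_congr hc rfl
  rw [hY, map_mul, hY, hY, Matrix.mulVec_add, D.x_add]

end central

end Cfsg.Agent.H918.U43
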