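import Cfsg.Agent.H918.U43.Lift
import Cfsg.Agent.H918.U43.CPerm

/-!
# Weights of the radical in a projective representation of `PSU₄(3)` (helper918)
-/

set_option autoImplicit false
set_option maxRecDepth 20000

namespace Cfsg.Agent.H918.U43

open Matrix Module

universe u v w z

/-- The situation: `P` acts linearly on `V`, `π : P → T` with kernel the scalars, `X` lifts the radical. -/
structure Sit {T : Type v} [Group T] (D : TD T) (F : Type u) [Field F] (V : Type w) [AddCommGroup V] [Module F V]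
    (P : Type z) [Group P] where
  ρ : P →* Module.End F V
  inj : Function.Injective ρ
  π : P →* T
  surj : Function.Surjective π
  ker : ∀ z, π z = 1 ↔ ∃ c : F, ρ z = c • 1
  om : F
  om3 : om ^ 2 + om + 1 = 0
  three : (3 : F) ≠ 0
  X : A4 → P
  X_add : ∀ v w, X (v + w) = X v * X w
  X_pi : ∀ v, π (X v) = D.x v

variable {T : Type v} [Group T] {D : TD T} {F : Type u} [Field F] {V : Type w} [AddCommGroup V] [Module F V]
    {P : Type z} [Group P] (S : Sit D F V P)

theorem hom_ext' {C : Type*} [AddCommGroup C] {f g : A4 →+ C} (h : ∀ i, f (Pi.single i 1) = g (Pi.single i 1)) : f = g := by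
  rw [← sub_eq_zero]
  apply hom_eq_zero
  intro i
  rw [AddMonoidHom.sub_apply, h i, sub_self]

noncomputable local instance instFK (K : AddSubgroup A4) : Fintype K := Fintype.ofFinite K

namespace Sit

include S

/-! ### the character -/

theorem om_cube : S.om ^ 3 = 1 := by
  have h := S.om3
  linear_combination (S.om - 1) * h

theorem om_ne_one : S.om ≠ 1 := by
  intro h
  have h1 := S.om3
  rw [h] at h1
  apply S.three
  linear_combination h1

theorem om_ne_zero : S.om ≠ 0 := by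
  intro h
  have h1 := S.om_cube
  rw [h] at h1
  norm_num at h1

/-- the character of `ZMod 3` -/
def ch (j : ZMod 3) : F := S.om ^ j.val

theorem ch_zero : S.ch 0 = 1 := pow_zero _

theorem ch_one : S.ch 1 = S.om := pow_one _

theorem ch_add (i j : ZMod 3) : S.ch (i + j) = S.ch i * S.ch j := by
  have h3 := S.om_cube
  unfold ch
  have key : ∀ i j : ZMod 3, (i + j).val = i.val + j.val ∨ (i + j).val + 3 = i.val + j.val := by decide
  rcases key i j with h | h
  · rw [h, pow_add]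
  · rw [← pow_add, ← h, pow_add, h3, mul_one]

theorem ch_ne_zero (j : ZMod 3) : S.ch j ≠ 0 := pow_ne_zero _ S.om_ne_zero

theorem ch_neg (j : ZMod 3) : S.ch (-j) * S.ch j = 1 := by rw [← ch_add, neg_add_cancel, ch_zero]

theorem ch_cube (j : ZMod 3) : S.ch j ^ 3 = 1 := by
  unfold ch
  rw [← pow_mul, mul_comm, pow_mul, S.om_cube, one_pow]

theorem ch_eq_one {j : ZMod 3} (h : S.ch j = 1) : j = 0 := by
  have key : ∀ j : ZMod 3, j = 0 ∨ j = 1 ∨ j = -1 := by decide
  rcases key j with h1 | h1 | h1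
  · exact h1
  · rw [h1, ch_one] at h
    exact absurd h S.om_ne_one
  · have h2 := S.ch_neg 1
    rw [← h1, h, one_mul, ch_one] at h2
    exact absurd h2 S.om_ne_one

theorem ch_inj {i j : ZMod 3} (h : S.ch i = S.ch j) : i = j := by
  have h1 : S.ch (i - j) = 1 := by
    rw [sub_eq_add_neg, ch_add, h, mul_comm, ch_neg]
  exact sub_eq_zero.1 (S.ch_eq_one h1)

theorem exists_ch {c : F} (hc : c ^ 3 = 1) : ∃ j, c = S.ch j := by
  have h : (c - 1) * ((c - S.om) * (c - S.om ^ 2)) = 0 := by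
    have h3 := S.om3
    have h4 := S.om_cube
    linear_combination hc + (-(c - 1) * c) * h3 + (c - 1) * h4
  rcases mul_eq_zero.1 h with h | h
  · exact ⟨0, by rw [ch_zero]; exact sub_eq_zero.1 h⟩
  · rcases mul_eq_zero.1 h with h | h
    · exact ⟨1, by rw [ch_one]; exact sub_eq_zero.1 h⟩
    · exact ⟨2, sub_eq_zero.1 h⟩

/-- characters of `A4` -/
theorem exists_dot {c : A4 → F} (h0 : c 0 = 1) (hadd : ∀ u u', c (u + u') = c u * c u') :
    ∃ t : A4, ∀ u, c u = S.ch (t ⬝ᵥ u) := by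
  have hcube : ∀ u, c u ^ 3 = 1 := by
    intro u
    rw [pow_succ, pow_two, ← hadd, ← hadd]
    have h : u + u + u = 0 := by
      refine funext fun i => ?_
      have : ∀ a : ZMod 3, a + a + a = 0 := by decide
      exact this (u i)
    rw [h, h0]
  choose t ht using fun i : Fin 4 => S.exists_ch (hcube (Pi.single i 1))
  refine ⟨t, fun u => ?_⟩
  have hs : ∀ (i : Fin 4) (k : ZMod 3), c (Pi.single i k) = S.ch (t i * k) := by
    intro i k
    have : k = 0 ∨ k = 1 ∨ k = 1 + 1 := by revert k; decide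
    rcases this with rfl | rfl | rfl
    · rw [Pi.single_zero, h0, mul_zero, ch_zero]
    · rw [ht, mul_one]
    · rw [Pi.single_add, hadd, ht, mul_add, mul_one, ch_add]
  have hu : u = (Pi.single 0 (u 0) : A4) + (Pi.single 1 (u 1) : A4) + (Pi.single 2 (u 2) : A4) + (Pi.single 3 (u 3) : A4) := by
    conv_lhs => rw [← Finset.univ_sum_single u]
    rw [Fin.sum_univ_four]
  conv_lhs => rw [hu]
  rw [hadd, hadd, hadd, hs, hs, hs, hs, ← ch_add, ← ch_add, ← ch_add]
  congr 1
  unfold dotProduct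
  rw [Fin.sum_univ_four]

/-! ### the action -/

theorem mul_ap (p q : P) (y : V) : S.ρ (p * q) y = S.ρ p (S.ρ q y) := by
  rw [map_mul, Module.End.mul_apply]

theorem one_ap (y : V) : S.ρ 1 y = y := by rw [map_one, Module.End.one_apply]

theorem inv_ap (p : P) (y : V) : S.ρ p⁻¹ (S.ρ p y) = y := by rw [← mul_ap, inv_mul_cancel, one_ap]

theorem ap_inv (p : P) (y : V) : S.ρ p (S.ρ p⁻¹ y) = y := by rw [← mul_ap, mul_inv_cancel, one_ap]

theorem ap_inj (p : P) {y y' : V} (h : S.ρ p y = S.ρ p y') : y = y' := by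
  rw [← S.inv_ap p y, h, inv_ap]

theorem X_zero : S.X 0 = 1 := by
  have h := S.X_add 0 0
  rw [add_zero] at h
  exact mul_eq_left.1 h.symm

theorem X_neg (v : A4) : S.X (-v) = (S.X v)⁻¹ := by
  rw [eq_inv_iff_mul_eq_one, ← S.X_add, neg_add_cancel, X_zero]

theorem X_comm (v w : A4) : S.X v * S.X w = S.X w * S.X v := by rw [← S.X_add, add_comm, S.X_add]

theorem exists_scalar {p q : P} (h : S.π p = S.π q) : ∃ c : F, c ≠ 0 ∧ ∀ y, S.ρ p y = c • S.ρ q y := by
  have h1 : S.π (p * q⁻¹) = 1 := by rw [map_mul, map_inv, h, mul_inv_cancel]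
  obtain ⟨c, hc⟩ := (S.ker _).1 h1
  have h2 : ∀ y, S.ρ p y = c • S.ρ q y := by
    intro y
    have h3 : S.ρ p y = S.ρ (p * q⁻¹) (S.ρ q y) := by rw [← mul_ap, inv_mul_cancel_right]
    rw [h3, hc]; rfl
  by_cases hc0 : c = 0
  · -- then `V` is trivial
    have h4 : ∀ y : V, y = 0 := by
      intro y
      have h5 := h2 (S.ρ p⁻¹ y)
      rwa [ap_inv, hc0, zero_smul] at h5
    exact ⟨1, one_ne_zero, fun y => by rw [h4 (S.ρ p y), h4 (S.ρ q y), smul_zero]⟩
  · exact ⟨c, hc0, h2⟩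

/-- weight spaces -/
def W (w : A4) : Submodule F V where
  carrier := {y | ∀ v, S.ρ (S.X v) y = S.ch (w ⬝ᵥ v) • y}
  add_mem' := by
    intro a b ha hb v
    rw [map_add, ha v, hb v, smul_add]
  zero_mem' := by
    intro v
    rw [map_zero, smul_zero]
  smul_mem' := by
    intro c y hy v
    rw [map_smul, hy v, smul_comm]

theorem mem_W {w : A4} {y : V} : y ∈ S.W w ↔ ∀ v, S.ρ (S.X v) y = S.ch (w ⬝ᵥ v) • y := Iff.rfl

theorem W_disj {w w' : A4} {y : V} (h : y ∈ S.W w) (h' : y ∈ S.W w') (hy : y ≠ 0) : w = w' := by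
  refine funext fun i => ?_
  have h1 := h (Pi.single i 1)
  rw [h' (Pi.single i 1), dotProduct_single_one, dotProduct_single_one] at h1
  have h2 : (S.ch (w' i) - S.ch (w i)) • y = 0 := by rw [sub_smul, h1, sub_self]
  rcases smul_eq_zero.1 h2 with h3 | h3
  · exact (S.ch_inj (sub_eq_zero.1 h3)).symm
  · exact absurd h3 hy

/-! ### projections -/

section proj

variable (K : AddSubgroup A4)

/-- the projection -/
noncomputable def pr (w : A4) : V →ₗ[F] V :=
  ((Nat.card K : ℕ) : F)⁻¹ • ∑ k : K, S.ch (-(w ⬝ᵥ (k : A4))) • S.ρ (S.X k)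

theorem pr_apply (w : A4) (y : V) :
    S.pr K w y = ((Nat.card K : ℕ) : F)⁻¹ • ∑ k : K, S.ch (-(w ⬝ᵥ (k : A4))) • S.ρ (S.X k) y := by
  unfold pr
  rw [LinearMap.smul_apply, LinearMap.sum_apply]
  rfl

theorem card_ne : ((Nat.card K : ℕ) : F) ≠ 0 := by
  intro h
  have h1 : Nat.card K ∣ 3 ^ 4 := by
    have h2 := AddSubgroup.card_addSubgroup_dvd_card K
    have h3 : Nat.card A4 = 3 ^ 4 := by
      rw [Nat.card_eq_fintype_card]
      decide +kernel
    rwa [h3] at h2
  obtain ⟨k, hk⟩ := h1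
  have h4 : (((3 ^ 4 : ℕ)) : F) = 0 := by
    rw [hk, Nat.cast_mul, h, zero_mul]
  rw [Nat.cast_pow] at h4
  exact S.three (pow_eq_zero_iff (by norm_num) |>.1 h4)

theorem pr_mem {Y : Submodule F V} (hY : ∀ k ∈ K, ∀ y ∈ Y, S.ρ (S.X k) y ∈ Y) (w : A4) {y : V} (hy : y ∈ Y) :
    S.pr K w y ∈ Y := by
  rw [pr_apply]
  exact Y.smul_mem _ (Y.sum_mem fun k _ => Y.smul_mem _ (hY k k.2 y hy))

theorem pr_of_mem {w w' : A4} {y : V} (hy : y ∈ S.W w') (h : ∀ k ∈ K, w' ⬝ᵥ k = w ⬝ᵥ k) : S.pr K w y = y := by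
  rw [pr_apply]
  have h1 : ∀ k : K, S.ch (-(w ⬝ᵥ (k : A4))) • S.ρ (S.X k) y = y := by
    intro k
    rw [hy k, h k k.2, smul_smul, ch_neg, one_smul]
  rw [Finset.sum_congr rfl fun k _ => h1 k, Finset.sum_const, Finset.card_univ, ← Nat.card_eq_fintype_card,
    ← Nat.cast_smul_eq_nsmul F, smul_smul, inv_mul_cancel₀ (S.card_ne K), one_smul]

theorem sum_ch {f k0 : A4} (hk0 : k0 ∈ K) (h : f ⬝ᵥ k0 ≠ 0) : ∑ k : K, S.ch (f ⬝ᵥ (k : A4)) = 0 := by
  have h1 : ∑ k : K, S.ch (f ⬝ᵥ (k : A4)) = S.ch (f ⬝ᵥ k0) * ∑ k : K, S.ch (f ⬝ᵥ (k : A4)) := by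
    rw [Finset.mul_sum]
    refine (Fintype.sum_equiv (Equiv.addRight (⟨k0, hk0⟩ : K)) _ _ fun k => ?_).symm
    rw [Equiv.coe_addRight, AddSubgroup.coe_add, dotProduct_add, ch_add, mul_comm]
  have h2 : (S.ch (f ⬝ᵥ k0) - 1) * ∑ k : K, S.ch (f ⬝ᵥ (k : A4)) = 0 := by
    rw [sub_mul, one_mul, ← h1, sub_self]
  rcases mul_eq_zero.1 h2 with h3 | h3
  · exact absurd (S.ch_eq_one (sub_eq_zero.1 h3)) h
  · exact h3

theorem pr_of_mem_ne {w w' : A4} {y : V} (hy : y ∈ S.W w') {k0 : A4} (hk0 : k0 ∈ K) (h : w' ⬝ᵥ k0 ≠ w ⬝ᵥ k0) :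
    S.pr K w y = 0 := by
  rw [pr_apply]
  have h1 : ∀ k : K, S.ch (-(w ⬝ᵥ (k : A4))) • S.ρ (S.X k) y = S.ch ((w' - w) ⬝ᵥ (k : A4)) • y := by
    intro k
    rw [hy k, smul_smul, ← ch_add]
    congr 2
    rw [sub_dotProduct]; ring
  rw [Finset.sum_congr rfl fun k _ => h1 k, ← Finset.sum_smul, S.sum_ch K hk0 (by
    rw [sub_dotProduct]; exact sub_ne_zero.2 h), zero_smul, smul_zero]

end proj

/-- the full projection -/
noncomputable abbrev prt (w : A4) : V →ₗ[F] V := S.pr ⊤ w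

theorem prt_mem (w : A4) (y : V) : S.prt w y ∈ S.W w := by
  intro v
  rw [prt, pr_apply, map_smul, map_sum, smul_comm]
  congr 1
  rw [Finset.smul_sum]
  refine Fintype.sum_equiv (Equiv.addRight (⟨v, trivial⟩ : (⊤ : AddSubgroup A4))) _ _ fun k => ?_
  rw [map_smul, ← mul_ap, ← S.X_add, Equiv.coe_addRight, AddSubgroup.coe_add, smul_smul, ← ch_add, add_comm v]
  congr 2
  change _ = w ⬝ᵥ v + -(w ⬝ᵥ ((k : A4) + v))
  rw [dotProduct_add]; ring

theorem prt_self {w : A4} {y : V} (hy : y ∈ S.W w) : S.prt w y = y := S.pr_of_mem ⊤ hy fun _ _ => rfl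

theorem prt_ne {w w' : A4} {y : V} (hy : y ∈ S.W w') (h : w' ≠ w) : S.prt w y = 0 := by
  obtain ⟨i, hi⟩ := Function.ne_iff.1 h
  refine S.pr_of_mem_ne ⊤ hy (k0 := Pi.single i 1) trivial ?_
  rwa [dotProduct_single_one, dotProduct_single_one]

theorem sum_prt (y : V) : ∑ w : A4, S.prt w y = y := by
  simp only [prt, pr_apply]
  rw [← Finset.smul_sum, Finset.sum_comm]
  have h1 : ∀ k : (⊤ : AddSubgroup A4), ∑ w : A4, S.ch (-(w ⬝ᵥ (k : A4))) • S.ρ (S.X k) y =
      if k = 0 then ((Nat.card (⊤ : AddSubgroup A4) : ℕ) : F) • y else 0 := by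
    intro k
    rw [← Finset.sum_smul]
    by_cases hk : k = 0
    · rw [if_pos hk, hk]
      have h2 : ∀ w : A4, S.ch (-(w ⬝ᵥ (((0 : (⊤ : AddSubgroup A4)) : (⊤ : AddSubgroup A4)) : A4))) = 1 := by
        intro w
        rw [AddSubgroup.coe_zero, dotProduct_zero, neg_zero, ch_zero]
      rw [Finset.sum_congr rfl fun w _ => h2 w, Finset.sum_const, Finset.card_univ, AddSubgroup.coe_zero, X_zero,
        one_ap, nsmul_one]
      congr 2
      rw [← Nat.card_eq_fintype_card]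
      exact (Nat.card_congr AddSubgroup.topEquiv.toEquiv).symm
    · rw [if_neg hk]
      have h3 : (k : A4) ≠ 0 := fun h => hk (Subtype.ext h)
      obtain ⟨i, hi⟩ := Function.ne_iff.1 h3
      have h4 : ∑ w : A4, S.ch (-(w ⬝ᵥ (k : A4))) = 0 := by
        have h5 := S.sum_ch ⊤ (f := -(k : A4)) (k0 := Pi.single i 1) trivial (by
          rw [dotProduct_single_one, Pi.neg_apply, neg_ne_zero]; exact hi)
        rw [← h5]
        refine Fintype.sum_equiv AddSubgroup.topEquiv.symm.toEquiv _ _ fun w => ?_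
        congr 1
        change -(w ⬝ᵥ (k : A4)) = -(k : A4) ⬝ᵥ w
        rw [neg_dotProduct, dotProduct_comm]
      rw [h4, zero_smul]
  rw [Finset.sum_congr rfl fun k _ => h1 k, Finset.sum_ite_eq' Finset.univ (0 : (⊤ : AddSubgroup A4)),
    if_pos (Finset.mem_univ _), smul_smul, inv_mul_cancel₀ (S.card_ne ⊤), one_smul]

/-- the dimension is the sum of the dimensions of the weight spaces -/
theorem finrank_eq [FiniteDimensional F V] : finrank F V = ∑ w : A4, finrank F (S.W w) := by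
  have e : V ≃ₗ[F] (∀ w : A4, S.W w) := LinearEquiv.ofLinear
    (LinearMap.pi fun w => (S.prt w).codRestrict (S.W w) (S.prt_mem w))
    (LinearMap.lsum F (fun w => S.W w) F fun w => (S.W w).subtype)
    (by
      refine LinearMap.ext fun f => ?_
      funext w
      apply Subtype.ext
      rw [LinearMap.comp_apply, LinearMap.pi_apply, LinearMap.codRestrict_apply, LinearMap.lsum_apply,
        LinearMap.sum_apply, map_sum, Finset.sum_eq_single w]
      · exact S.prt_self (f w).2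
      · intro w' _ hw'
        exact S.prt_ne (f w').2 hw'
      · intro h; exact absurd (Finset.mem_univ _) h)
    (by
      refine LinearMap.ext fun y => ?_
      rw [LinearMap.comp_apply, LinearMap.lsum_apply, LinearMap.sum_apply]
      exact S.sum_prt y)
  rw [e.finrank_eq, Module.finrank_pi_fintype]

end Sit

end Cfsg.Agent.H918.U43
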