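import Cfsg.Agent.H918.U43.Rep1

/-!
# The action of the parabolic on the weights (helper918)
-/

set_option autoImplicit false
set_option maxRecDepth 20000

namespace Cfsg.Agent.H918.U43

open Matrix Module Equiv

universe u v w z

/-! ### dual maps -/

/-- the dual map -/
def dl (R : A4 ≃+ A4) (w : A4) : A4 := fun i => w ⬝ᵥ R.symm (Pi.single i 1)

theorem dl_dot (R : A4 ≃+ A4) (w u : A4) : dl R w ⬝ᵥ u = w ⬝ᵥ R.symm u := by
  have h : (AddMonoidHom.mk' (fun u : A4 => dl R w ⬝ᵥ u) fun u u' => dotProduct_add _ _ _) =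
      AddMonoidHom.mk' (fun u : A4 => w ⬝ᵥ R.symm u) (fun u u' => by rw [map_add, dotProduct_add]) := by
    apply hom_ext'
    intro i
    change dl R w ⬝ᵥ Pi.single i 1 = w ⬝ᵥ R.symm (Pi.single i 1)
    rw [dotProduct_single_one]; rfl
  exact DFunLike.congr_fun h u

theorem dl_add (R : A4 ≃+ A4) (w w' : A4) : dl R (w + w') = dl R w + dl R w' := by
  funext i
  exact add_dotProduct _ _ _

/-- the dual map as an equivalence -/
def dlE (R : A4 ≃+ A4) : A4 ≃+ A4 where
  toFun := dl R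
  invFun := dl R.symm
  left_inv := by
    intro w
    funext i
    change dl R w ⬝ᵥ R.symm.symm (Pi.single i 1) = w i
    rw [dl_dot, AddEquiv.symm_symm, AddEquiv.symm_apply_apply, dotProduct_single_one]
  right_inv := by
    intro w
    funext i
    change dl R.symm w ⬝ᵥ R.symm (Pi.single i 1) = w i
    rw [dl_dot, AddEquiv.symm_symm, AddEquiv.apply_symm_apply, dotProduct_single_one]
  map_add' := dl_add R

theorem dlE_dot (R : A4 ≃+ A4) (w u : A4) : dlE R w ⬝ᵥ u = w ⬝ᵥ R.symm u := dl_dot R w u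

theorem dlE_dot' (R : A4 ≃+ A4) (w u : A4) : dlE R w ⬝ᵥ R u = w ⬝ᵥ u := by
  rw [dlE_dot, AddEquiv.symm_apply_apply]

/-- a matrix as an equivalence -/
def mE (A B : Matrix (Fin 4) (Fin 4) (ZMod 3)) (h : A * B = 1) (h' : B * A = 1) : A4 ≃+ A4 where
  toFun v := A *ᵥ v
  invFun v := B *ᵥ v
  left_inv v := by
    change B *ᵥ (A *ᵥ v) = v
    rw [Matrix.mulVec_mulVec, h', Matrix.one_mulVec]
  right_inv v := by
    change A *ᵥ (B *ᵥ v) = v
    rw [Matrix.mulVec_mulVec, h, Matrix.one_mulVec]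
  map_add' v w := Matrix.mulVec_add _ _ _

theorem dlE_mE {A B : Matrix (Fin 4) (Fin 4) (ZMod 3)} {h : A * B = 1} {h' : B * A = 1} (w : A4) :
    dlE (mE A B h h').symm w = w ᵥ* A := by
  funext i
  have h1 := dlE_dot (mE A B h h').symm w (Pi.single i 1)
  rw [dotProduct_single_one] at h1
  rw [h1]
  change w ⬝ᵥ (A *ᵥ Pi.single i 1) = _
  rw [Matrix.dotProduct_mulVec, dotProduct_single_one]

theorem exists_Rm_inv (i : Fin 4) : ∃ B, Rm i * B = 1 ∧ B * Rm i = 1 := by
  fin_cases i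
  · exact ⟨RU 2 0, by decide +kernel⟩
  · exact ⟨RU 0 2, by decide +kernel⟩
  · exact ⟨RL 2 0, by decide +kernel⟩
  · exact ⟨RL 0 2, by decide +kernel⟩

variable {T : Type v} [Group T] {D : TD T}

theorem TD.exists_R (D : TD T) {m : T} (hm : m ∈ Subgroup.closure D.gens) :
    ∃ R : A4 ≃+ A4, ∀ v, m * D.x v * m⁻¹ = D.x (R v) := by
  choose R hR using D.norm m hm
  have hadd : ∀ v v', R (v + v') = R v + R v' := by
    intro v v'
    apply D.x_inj
    rw [D.x_add, ← hR, ← hR, ← hR, D.x_add]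
    group
  have hinj : Function.Injective R := by
    intro v v' h
    apply D.x_inj
    have h1 := hR v
    rw [h, ← hR v'] at h1
    exact mul_left_cancel (mul_right_cancel h1)
  exact ⟨AddEquiv.ofBijective (AddMonoidHom.mk' R hadd) (Finite.injective_iff_bijective.1 hinj), hR⟩

variable {F : Type u} [Field F] {V : Type w} [AddCommGroup V] [Module F V]
    {P : Type z} [Group P] (S : Sit D F V P)

namespace Sit

include S

/-- **The action on weights.** -/
theorem move [Nontrivial V] {p : P} {R : A4 ≃+ A4} (hR : ∀ v, S.π p * D.x v * (S.π p)⁻¹ = D.x (R v)) :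
    ∃ t : A4, ∀ w y, y ∈ S.W w ↔ S.ρ p y ∈ S.W (dlE R w + t) := by
  obtain ⟨y0, hy0⟩ := exists_ne (0 : V)
  have hπ : ∀ u, S.π (p⁻¹ * S.X u * p) = S.π (S.X (R.symm u)) := by
    intro u
    have h1 := hR (R.symm u)
    rw [AddEquiv.apply_symm_apply] at h1
    rw [map_mul, map_mul, map_inv, S.X_pi, S.X_pi, ← h1]
    group
  choose c hc0 hc using fun u => S.exists_scalar (hπ u)
  have hne : ∀ u, S.ρ (S.X (R.symm u)) y0 ≠ 0 := by
    intro u h
    apply hy0
    apply S.ap_inj (S.X (R.symm u))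
    rw [h, map_zero]
  have hc1 : c 0 = 1 := by
    have h1 := hc 0 y0
    rw [map_zero, S.X_zero, mul_one, inv_mul_cancel] at h1
    have h2 : (1 - c 0) • S.ρ 1 y0 = 0 := by rw [sub_smul, ← h1, one_smul, sub_self]
    rcases smul_eq_zero.1 h2 with h3 | h3
    · exact (sub_eq_zero.1 h3).symm
    · rw [S.one_ap] at h3
      exact absurd h3 hy0
  have hcadd : ∀ u u', c (u + u') = c u * c u' := by
    intro u u'
    have h1 := hc (u + u') y0
    have h2 : p⁻¹ * S.X (u + u') * p = (p⁻¹ * S.X u * p) * (p⁻¹ * S.X u' * p) := by rw [S.X_add]; group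
    rw [h2, S.mul_ap, hc, hc, map_smul, ← S.mul_ap, ← S.X_add, ← map_add, smul_smul] at h1
    have h3 : (c (u + u') - c u * c u') • S.ρ (S.X (R.symm (u + u'))) y0 = 0 := by
      rw [sub_smul, ← h1, sub_self]
    rcases smul_eq_zero.1 h3 with h4 | h4
    · exact sub_eq_zero.1 h4
    · exact absurd h4 (hne _)
  obtain ⟨t, ht⟩ := S.exists_dot hc1 hcadd
  refine ⟨t, fun w y => ?_⟩
  have key : ∀ u, S.ρ (S.X u) (S.ρ p y) = S.ch (t ⬝ᵥ u) • S.ρ p (S.ρ (S.X (R.symm u)) y) := by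
    intro u
    have h1 : S.ρ (S.X u) (S.ρ p y) = S.ρ p (S.ρ (p⁻¹ * S.X u * p) y) := by
      rw [← S.mul_ap, ← S.mul_ap]
      congr 2
      group
    rw [h1, hc, map_smul, ht]
  constructor
  · intro hy u
    rw [key, hy, map_smul, smul_smul, ← S.ch_add, add_dotProduct, dlE_dot, add_comm]
  · intro hy v
    have h1 := hy (R v)
    rw [key, AddEquiv.symm_apply_apply, add_dotProduct, dlE_dot', S.ch_add, mul_comm, mul_smul] at h1
    have h2 : S.ch (t ⬝ᵥ R v) • (S.ρ p (S.ρ (S.X v) y) - S.ch (w ⬝ᵥ v) • S.ρ p y) = 0 := by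
      rw [smul_sub, h1, sub_self]
    rcases smul_eq_zero.1 h2 with h3 | h3
    · exact absurd h3 (S.ch_ne_zero _)
    · apply S.ap_inj p
      rw [map_smul]
      exact sub_eq_zero.1 h3

open scoped Classical in
/-- the weights -/
noncomputable def Om : Finset A4 := Finset.univ.filter fun w => S.W w ≠ ⊥

theorem mem_Om {w : A4} : w ∈ S.Om ↔ S.W w ≠ ⊥ := by
  unfold Om
  rw [Finset.mem_filter]
  exact ⟨fun h => h.2, fun h => ⟨Finset.mem_univ _, h⟩⟩

theorem exists_vec (w : {w // w ∈ S.Om}) : ∃ y ∈ S.W w, y ≠ 0 := by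
  obtain ⟨y, hy, hy0⟩ := Submodule.exists_mem_ne_zero_of_ne_bot (S.mem_Om.1 w.2)
  exact ⟨y, hy, hy0⟩

theorem prt_zero {w : A4} (hw : w ∉ S.Om) (y : V) : S.prt w y = 0 := by
  rw [S.mem_Om, not_not] at hw
  have h1 := S.prt_mem w y
  rwa [hw, Submodule.mem_bot] at h1

theorem sum_prt' (y : V) : ∑ w : {w // w ∈ S.Om}, S.prt (w : A4) y = y := by
  conv_rhs => rw [← S.sum_prt y]
  rw [Finset.sum_coe_sort S.Om (fun w => S.prt w y)]
  apply Finset.sum_subset (Finset.subset_univ _)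
  intro w _ hw
  exact S.prt_zero hw y

theorem mem_Om_of_iff {p : P} {w w' : A4} (h : ∀ y, y ∈ S.W w ↔ S.ρ p y ∈ S.W w') : w ∈ S.Om ↔ w' ∈ S.Om := by
  rw [mem_Om, mem_Om]
  constructor
  · intro h1
    obtain ⟨y, hy, hy0⟩ := Submodule.exists_mem_ne_zero_of_ne_bot h1
    intro h2
    have h3 := (h y).1 hy
    rw [h2, Submodule.mem_bot] at h3
    apply hy0
    apply S.ap_inj p
    rw [h3, map_zero]
  · intro h1
    obtain ⟨y, hy, hy0⟩ := Submodule.exists_mem_ne_zero_of_ne_bot h1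
    intro h2
    have h3 := (h (S.ρ p⁻¹ y)).2 (by rwa [S.ap_inv])
    rw [h2, Submodule.mem_bot] at h3
    apply hy0
    rw [← S.ap_inv p y, h3, map_zero]

theorem finrank_of_iff {p : P} {w w' : A4} (h : ∀ y, y ∈ S.W w ↔ S.ρ p y ∈ S.W w') :
    finrank F (S.W w) = finrank F (S.W w') := by
  have e : S.W w ≃ₗ[F] S.W w' := LinearEquiv.ofBijective ((S.ρ p).restrict fun y hy => (h y).1 hy) (by
    constructor
    · intro y y' he
      apply Subtype.ext
      exact S.ap_inj p (congrArg Subtype.val he)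
    · intro y
      refine ⟨⟨S.ρ p⁻¹ y, (h _).2 (by rw [S.ap_inv]; exact y.2)⟩, ?_⟩
      apply Subtype.ext
      exact S.ap_inv p y)
  exact e.finrank_eq

/-- the preimage of `M` -/
def Mh : Subgroup P := (Subgroup.closure D.gens).comap S.π

theorem mem_Mh {p : P} : p ∈ S.Mh ↔ S.π p ∈ Subgroup.closure D.gens := Iff.rfl

/-- a permutation of the weights induced by `p` -/
def Act (p : P) (σ : Perm {w // w ∈ S.Om}) : Prop := ∀ (w : {w // w ∈ S.Om}) (y : V), y ∈ S.W w ↔ S.ρ p y ∈ S.W (σ w)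

omit S in
theorem Act.unique {S : Sit D F V P} {p : P} {σ τ : Perm {w // w ∈ S.Om}} (h : S.Act p σ) (h' : S.Act p τ) : σ = τ := by
  refine Equiv.ext fun w => Subtype.ext ?_
  obtain ⟨y, hy, hy0⟩ := S.exists_vec w
  refine S.W_disj ((h w y).1 hy) ((h' w y).1 hy) fun h0 => hy0 ?_
  apply S.ap_inj p
  rw [h0, map_zero]

omit S in
theorem Act.mul {S : Sit D F V P} {p q : P} {σ τ : Perm {w // w ∈ S.Om}} (h : S.Act p σ) (h' : S.Act q τ) :
    S.Act (p * q) (σ * τ) := by
  intro w y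
  rw [h' w y, h (τ w) _, S.mul_ap, Perm.mul_apply]

theorem Act.one : S.Act 1 1 := by
  intro w y
  rw [S.one_ap, Perm.one_apply]

theorem exists_act [Nontrivial V] {p : P} {R : A4 ≃+ A4} (hR : ∀ v, S.π p * D.x v * (S.π p)⁻¹ = D.x (R v)) :
    ∃ σ, S.Act p σ ∧ Lin σ (dlE R) := by
  obtain ⟨t, ht⟩ := S.move hR
  let e : Perm A4 := (dlE R).toEquiv.trans (Equiv.addRight t)
  have he : ∀ w, e w = dlE R w + t := fun w => rfl
  let σ : Perm {w // w ∈ S.Om} := e.subtypePerm fun w => by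
    rw [he]
    exact (S.mem_Om_of_iff (ht w)).symm
  refine ⟨σ, fun w y => ht w y, fun w w' => ?_⟩
  change (dlE R w' + t) - (dlE R w + t) = dlE R ((w' : A4) - w)
  rw [add_sub_add_right_eq_sub, map_sub]

theorem exists_act' [Nontrivial V] (m : S.Mh) : ∃ σ, S.Act (m : P) σ := by
  obtain ⟨R, hR⟩ := D.exists_R (S.mem_Mh.1 m.2)
  obtain ⟨σ, h, _⟩ := S.exists_act hR
  exact ⟨σ, h⟩

/-- the permutation action -/
noncomputable def act [Nontrivial V] : S.Mh →* Perm {w // w ∈ S.Om} :=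
  MonoidHom.mk' (fun m => (S.exists_act' m).choose) fun m m' =>
    ((S.exists_act' (m * m')).choose_spec).unique ((S.exists_act' m).choose_spec.mul (S.exists_act' m').choose_spec)

theorem act_spec [Nontrivial V] (m : S.Mh) : S.Act (m : P) (S.act m) := (S.exists_act' m).choose_spec

theorem act_lin [Nontrivial V] (m : S.Mh) {R : A4 ≃+ A4}
    (hR : ∀ v, S.π (m : P) * D.x v * (S.π (m : P))⁻¹ = D.x (R v)) : Lin (S.act m) (dlE R) := by
  obtain ⟨σ, h, h'⟩ := S.exists_act hR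
  rw [(S.act_spec m).unique h]
  exact h'

/-! ### the letters -/

theorem exists_al : ∃ al : Fin 4 → P, ∀ i, S.π (al i) = (D.a i)⁻¹ := by
  choose al hal using fun i => S.surj (D.a i)⁻¹
  exact ⟨al, hal⟩

theorem inv_rel {p : P} {t : T} (hp : S.π p = t⁻¹) {A B : Matrix (Fin 4) (Fin 4) (ZMod 3)} (h : A * B = 1)
    (h' : B * A = 1) (ht : ∀ v, t * D.x v * t⁻¹ = D.x (A *ᵥ v)) (v : A4) :
    S.π p * D.x v * (S.π p)⁻¹ = D.x ((mE A B h h').symm v) := by
  have h1 := ht (B *ᵥ v)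
  rw [Matrix.mulVec_mulVec, h, Matrix.one_mulVec] at h1
  rw [hp, inv_inv, ← h1]
  change _ = D.x (B *ᵥ v)
  group

/-- not all of `V` is one weight space -/
theorem not_sub [Nontrivial V] (s : A4) : ¬ S.Om ⊆ {s} := by
  intro h
  have h1 : ∀ y : V, y ∈ S.W s := by
    intro y
    have h2 := S.sum_prt y
    rw [Finset.sum_eq_single s] at h2
    · rw [← h2]
      exact S.prt_mem _ _
    · intro w _ hw
      apply S.prt_zero
      intro hw'
      exact hw (Finset.mem_singleton.1 (h hw'))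
    · intro h; exact absurd (Finset.mem_univ _) h
  have h2 : ∀ v, D.x v = D.x 0 := by
    intro v
    have h3 : ∀ v, S.π (S.X v) = 1 := by
      intro v
      rw [S.ker]
      exact ⟨S.ch (s ⬝ᵥ v), LinearMap.ext fun y => h1 y v⟩
    rw [← S.X_pi, ← S.X_pi, h3, h3]
  have h3 := D.x_inj (h2 (Pi.single 0 1))
  have h4 := congrFun h3 0
  rw [Pi.single_eq_same] at h4
  exact absurd h4 (by decide)

/-- **The weights and their multiplicities.** -/
theorem hex [Nontrivial V] [FiniteDimensional F V] (hn : finrank F V ≤ 12) :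
    ∃ c, Hex S.Om c ∧ ∃ μ, (μ = 1 ∨ μ = 2) ∧ (∀ w ∈ S.Om, finrank F (S.W w) = μ) ∧ finrank F V = 6 * μ := by
  classical
  obtain ⟨al, hal⟩ := S.exists_al
  have hmv : ∀ i, ∃ t : A4, ∀ w y, y ∈ S.W w ↔ S.ρ (al i) y ∈ S.W (w ᵥ* Rm i + t) := by
    intro i
    obtain ⟨B, h, h'⟩ := exists_Rm_inv i
    obtain ⟨t, ht⟩ := S.move (S.inv_rel (hal i) h h' (D.act_a i))
    refine ⟨t, fun w y => ?_⟩
    rw [ht w y, dlE_mE]
  choose t ht using hmv
  have hinv : ∀ i w, w ∈ S.Om → Ph t i w ∈ S.Om := fun i w hw => (S.mem_Om_of_iff (ht i w)).1 hw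
  have hpos : ∀ w ∈ S.Om, 1 ≤ finrank F (S.W w) := by
    intro w hw
    rw [Nat.one_le_iff_ne_zero]
    intro h
    exact S.mem_Om.1 hw (Submodule.finrank_eq_zero.1 h)
  have hsum : finrank F V = ∑ w ∈ S.Om, finrank F (S.W w) := by
    rw [S.finrank_eq]
    symm
    apply Finset.sum_subset (Finset.subset_univ _)
    intro w _ hw
    rw [S.mem_Om, not_not] at hw
    rw [hw, finrank_bot]
  have hle : S.Om.card ≤ 12 := by
    calc S.Om.card = ∑ w ∈ S.Om, 1 := by rw [Finset.card_eq_sum_ones]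
      _ ≤ ∑ w ∈ S.Om, finrank F (S.W w) := Finset.sum_le_sum hpos
      _ ≤ 12 := by rw [← hsum]; exact hn
  rcases shape (t := t) hinv hle with ⟨s, hs⟩ | ⟨h6, c, hc, hnd⟩
  · exact absurd hs (S.not_sub s)
  have hne : S.Om.Nonempty := Finset.card_pos.1 (by rw [h6]; norm_num)
  obtain ⟨w0, hw0⟩ := hne
  set μ := finrank F (S.W w0) with hμ
  -- level set
  have hL : ∀ i, ∀ w ∈ S.Om.filter (fun w => finrank F (S.W w) = μ), Ph t i w ∈ S.Om.filter (fun w => finrank F (S.W w) = μ) := by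
    intro i w hw
    rw [Finset.mem_filter] at hw ⊢
    exact ⟨hinv i w hw.1, by rw [← hw.2]; exact (S.finrank_of_iff (ht i w)).symm⟩
  have hw0L : w0 ∈ S.Om.filter (fun w => finrank F (S.W w) = μ) := Finset.mem_filter.2 ⟨hw0, hμ.symm⟩
  have hLc : (S.Om.filter (fun w => finrank F (S.W w) = μ)).card ≤ 12 := (Finset.card_filter_le _ _).trans hle
  have hLeq : S.Om.filter (fun w => finrank F (S.W w) = μ) = S.Om := by
    rcases shape (t := t) hL hLc with ⟨s, hs⟩ | ⟨h6', _⟩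
    · exfalso
      have hs0 : s = w0 := (Finset.mem_singleton.1 (hs hw0L)).symm
      have hfix : ∀ i, Ph t i s = s := by
        intro i
        rw [hs0]
        have h1 := hs (hL i w0 hw0L)
        rw [Finset.mem_singleton] at h1
        rw [h1, hs0]
      exact S.not_sub s (sub_of_fixed hinv hle hfix)
    · exact Finset.eq_of_subset_of_card_le (Finset.filter_subset _ _) (by rw [h6, h6'])
  have hall : ∀ w ∈ S.Om, finrank F (S.W w) = μ := by
    intro w hw
    rw [← hLeq, Finset.mem_filter] at hw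
    exact hw.2
  have hn6 : finrank F V = 6 * μ := by
    rw [hsum, Finset.sum_congr rfl hall, Finset.sum_const, h6, smul_eq_mul]
  have hμ1 := hpos w0 hw0
  refine ⟨c, ⟨h6, hc, hnd⟩, μ, ?_, hall, hn6⟩
  omega

end Sit

end Cfsg.Agent.H918.U43
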