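import Cfsg.Agent.H918.U43.Rep2

/-!
# The group induced on the six weights (helper918)
-/

set_option autoImplicit false
set_option maxRecDepth 20000

namespace Cfsg.Agent.H918.U43

open Matrix Module Equiv
open scoped commutatorElement

universe u v w z

/-! ### point stabilisers in the alternating group -/

section alt

variable {Ω : Type} [Fintype Ω] [DecidableEq Ω]

theorem exists_ofSubtype {w0 : Ω} {σ : Perm Ω} (hs : Perm.sign σ = 1) (h0 : σ w0 = w0) :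
    ∃ σ' : Perm {w // w ≠ w0}, σ' ∈ alternatingGroup {w // w ≠ w0} ∧ Perm.ofSubtype σ' = σ := by
  have h1 : ∀ x, σ x ≠ w0 ↔ x ≠ w0 := by
    intro x
    rw [not_iff_not]
    constructor
    · intro h
      apply σ.injective
      rw [h, h0]
    · intro h
      rw [h, h0]
  have h2 : ∀ x, σ x ≠ x → x ≠ w0 := by
    intro x hx h
    apply hx
    rw [h, h0]
  refine ⟨σ.subtypePerm h1, ?_, Perm.ofSubtype_subtypePerm h1 h2⟩
  rw [Perm.mem_alternatingGroup, Perm.sign_subtypePerm σ h1 h2, hs]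

theorem ofSubtype_fix {w0 : Ω} (σ' : Perm {w // w ≠ w0}) : (Perm.ofSubtype σ' : Perm Ω) w0 = w0 :=
  Perm.ofSubtype_apply_of_not_mem σ' (fun h => h rfl)

/-- generation by three-cycles -/
theorem mem_of_three {w0 : Ω} {H : Subgroup (Perm Ω)} (hH : ∀ τ : Perm Ω, τ.IsThreeCycle → τ w0 = w0 → τ ∈ H)
    {σ : Perm Ω} (hs : Perm.sign σ = 1) (h0 : σ w0 = w0) : σ ∈ H := by
  obtain ⟨σ', h1, rfl⟩ := exists_ofSubtype hs h0
  rw [← Perm.closure_three_cycles_eq_alternating] at h1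
  have h2 : Subgroup.closure {σ : Perm {w // w ≠ w0} | Perm.IsThreeCycle σ} ≤ H.comap Perm.ofSubtype := by
    rw [Subgroup.closure_le]
    intro τ hτ
    refine hH _ ?_ (ofSubtype_fix τ)
    unfold Perm.IsThreeCycle at *
    rw [Perm.cycleType_ofSubtype]
    exact hτ
  exact h2 h1

/-- generation by commutators -/
theorem mem_of_comm (h6 : Fintype.card Ω = 6) {w0 : Ω} {H : Subgroup (Perm Ω)}
    (hH : ∀ σ τ : Perm Ω, Perm.sign σ = 1 → Perm.sign τ = 1 → σ w0 = w0 → τ w0 = w0 → ⁅σ, τ⁆ ∈ H)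
    {σ : Perm Ω} (hs : Perm.sign σ = 1) (h0 : σ w0 = w0) : σ ∈ H := by
  obtain ⟨σ', h1, rfl⟩ := exists_ofSubtype hs h0
  have hc : 5 ≤ Nat.card {w // w ≠ w0} := by
    rw [Nat.card_eq_fintype_card]
    have : Fintype.card {w // w ≠ w0} = 5 := by
      rw [Fintype.card_subtype_compl, h6, Fintype.card_subtype_eq]
    omega
  rw [← commutator_alternatingGroup_eq_self hc] at h1
  have h2 : ⁅alternatingGroup {w // w ≠ w0}, alternatingGroup {w // w ≠ w0}⁆ ≤ H.comap Perm.ofSubtype := by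
    rw [Subgroup.commutator_le]
    intro a ha b hb
    rw [Subgroup.mem_comap, map_commutatorElement]
    rw [Perm.mem_alternatingGroup] at ha hb
    exact hH _ _ (by rw [Perm.sign_ofSubtype, ha]) (by rw [Perm.sign_ofSubtype, hb]) (ofSubtype_fix a) (ofSubtype_fix b)
  exact h2 h1

end alt

variable {T : Type v} [Group T] {D : TD T} {F : Type u} [Field F] {V : Type w} [AddCommGroup V] [Module F V]
    {P : Type z} [Group P] (S : Sit D F V P)

namespace Sit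

include S

theorem scalar_mem {z : P} (hz : S.π z = 1) : z ∈ S.Mh := by
  rw [mem_Mh, hz]
  exact Subgroup.one_mem _

/-- elements acting trivially -/
theorem act_of_x [Nontrivial V] {m : S.Mh} {v : A4} (h : S.π (m : P) = D.x v) : S.act m = 1 := by
  refine (S.act_spec m).unique ?_
  rw [← S.X_pi] at h
  obtain ⟨c, hc0, hc⟩ := S.exists_scalar h
  intro w y
  rw [hc, Perm.one_apply]
  constructor
  · intro hy
    rw [hy v]
    exact Submodule.smul_mem _ _ (Submodule.smul_mem _ _ hy)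
  · intro hy
    rw [Submodule.smul_mem_iff _ hc0] at hy
    intro u
    have h1 := hy u
    rw [← S.mul_ap, S.X_comm, S.mul_ap, ← map_smul] at h1
    exact S.ap_inj _ h1

theorem act_of_one [Nontrivial V] {m : S.Mh} (h : S.π (m : P) = 1) : S.act m = 1 := by
  apply S.act_of_x (v := 0)
  rw [h, ← S.X_pi, S.X_zero, map_one]

theorem act_of_cent [Nontrivial V] {m : S.Mh} (h : ∀ v, S.π (m : P) * D.x v * (S.π (m : P))⁻¹ = D.x v) :
    S.act m = 1 := by
  obtain ⟨v, hv⟩ := D.cent _ m.2 h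
  exact S.act_of_x hv

theorem act_congr [Nontrivial V] {m m' : S.Mh} (h : S.π (m : P) = S.π (m' : P)) : S.act m = S.act m' := by
  have h1 : S.act (m * m'⁻¹) = 1 := by
    apply S.act_of_one
    rw [Subgroup.coe_mul, Subgroup.coe_inv, map_mul, map_inv, h, mul_inv_cancel]
  rw [map_mul, map_inv, mul_inv_eq_one] at h1
  exact h1

/-- the kernel -/
theorem ker_act [Nontrivial V] {c : ZMod 3} (H : Hex S.Om c) {m : S.Mh} (h : S.act m = 1) :
    ∃ v, S.π (m : P) = D.x v := by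
  obtain ⟨R, hR⟩ := D.exists_R (S.mem_Mh.1 m.2)
  have h1 := S.act_lin m hR
  rw [h] at h1
  have h2 := H.eq_of_lin (R := R) h1 fun f v => dlE_dot' R f v
  refine D.cent _ m.2 fun v => ?_
  rw [hR, h2]

theorem ker_scalar [Nontrivial V] {c : ZMod 3} (H : Hex S.Om c) {m : S.Mh} (h : S.act m = 1) (w : A4) :
    ∃ a : F, ∀ y ∈ S.W w, S.ρ (m : P) y = a • y := by
  obtain ⟨v, hv⟩ := S.ker_act H h
  rw [← S.X_pi] at hv
  obtain ⟨c, hc0, hc⟩ := S.exists_scalar hv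
  refine ⟨c * S.ch (w ⬝ᵥ v), fun y hy => ?_⟩
  rw [hc, hy v, smul_smul]

/-- even permutations -/
theorem sign_act [Nontrivial V] (m : S.Mh) : Perm.sign (S.act m) = 1 := by
  have key : ∀ t ∈ Subgroup.closure D.gens, ∀ m : S.Mh, S.π (m : P) = t → Perm.sign (S.act m) = 1 := by
    intro t ht
    induction ht using Subgroup.closure_induction with
    | mem s hs =>
      intro m hm
      have h1 : S.act m ^ 3 = 1 := by
        rw [← map_pow]
        apply S.act_of_one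
        rw [Subgroup.coe_pow, map_pow, hm, D.gens_pow s hs]
      have h2 : Perm.sign (S.act m) ^ 3 = 1 := by rw [← map_pow, h1, map_one]
      rcases Int.units_eq_one_or (Perm.sign (S.act m)) with h | h
      · exact h
      · rw [h] at h2
        exact absurd h2 (by decide)
    | one =>
      intro m hm
      rw [S.act_of_one hm, map_one]
    | mul s t hs ht ihs iht =>
      intro m hm
      obtain ⟨a, ha⟩ := S.surj s
      obtain ⟨b, hb⟩ := S.surj t
      have ha' : a ∈ S.Mh := by rw [mem_Mh, ha]; exact hs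
      have hb' : b ∈ S.Mh := by rw [mem_Mh, hb]; exact ht
      have h1 : S.act m = S.act (⟨a, ha'⟩ * ⟨b, hb'⟩) := by
        apply S.act_congr
        rw [hm, Subgroup.coe_mul, map_mul, ha, hb]
      rw [h1, map_mul, map_mul, ihs ⟨a, ha'⟩ ha, iht ⟨b, hb'⟩ hb, mul_one]
    | inv s hs ihs =>
      intro m hm
      have h1 := ihs m⁻¹ (by rw [Subgroup.coe_inv, map_inv, hm, inv_inv])
      rw [map_inv, map_inv, inv_eq_one] at h1
      exact h1
  exact key _ m.2 m rfl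

theorem act_mem_range [Nontrivial V] {σ : Perm {w // w ∈ S.Om}} (hσ : σ ∈ S.act.range) :
    ∃ ρ : A4 ≃+ A4, Lin σ ρ := by
  obtain ⟨m, rfl⟩ := hσ
  obtain ⟨R, hR⟩ := D.exists_R (S.mem_Mh.1 m.2)
  exact ⟨_, S.act_lin m hR⟩

/-- the letters -/
theorem exists_al' : ∃ al : Fin 4 → S.Mh, ∀ i, S.π (al i : P) = (D.a i)⁻¹ := by
  obtain ⟨al, hal⟩ := S.exists_al
  exact ⟨fun i => ⟨al i, by rw [mem_Mh, hal]; exact Subgroup.inv_mem _ (D.a_mem i)⟩, hal⟩

theorem exists_be : ∃ be : S.Mh, S.π (be : P) = D.h⁻¹ := by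
  obtain ⟨be, hbe⟩ := S.surj D.h⁻¹
  exact ⟨⟨be, by rw [mem_Mh, hbe]; exact Subgroup.inv_mem _ D.h_mem⟩, hbe⟩

theorem lin_al [Nontrivial V] {m : S.Mh} {i : Fin 4} (h : S.π (m : P) = (D.a i)⁻¹) :
    Lin (S.act m) fun f => f ᵥ* Rm i := by
  obtain ⟨B, h1, h2⟩ := exists_Rm_inv i
  have h3 := S.act_lin m (S.inv_rel h h1 h2 (D.act_a i))
  intro w w'
  rw [h3, dlE_mE]

theorem lin_be [Nontrivial V] {m : S.Mh} (h : S.π (m : P) = D.h⁻¹) :
    Lin (S.act m) fun f => f ᵥ* RH := by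
  have h1 : RH * (RH * RH * RH) = 1 := by decide +kernel
  have h2 : (RH * RH * RH) * RH = 1 := by decide +kernel
  have h3 := S.act_lin m (S.inv_rel h h1 h2 D.act_h)
  intro w w'
  rw [h3, dlE_mE]

theorem pow_act [Nontrivial V] {m : S.Mh} {t : T} (h : S.π (m : P) = t⁻¹) {A : Matrix (Fin 4) (Fin 4) (ZMod 3)}
    (ht : ∀ v, t * D.x v * t⁻¹ = D.x (A *ᵥ v)) {k : ℕ} (hA : A ^ k = 1) : S.act m ^ k = 1 := by
  have h1 : ∀ (j : ℕ) (v : A4), t ^ j * D.x v * (t ^ j)⁻¹ = D.x ((A ^ j) *ᵥ v) := by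
    intro j
    induction j with
    | zero =>
      intro v
      rw [pow_zero, pow_zero, Matrix.one_mulVec]; group
    | succ j ih =>
      intro v
      have e : t ^ (j + 1) * D.x v * (t ^ (j + 1))⁻¹ = t ^ j * (t * D.x v * t⁻¹) * (t ^ j)⁻¹ := by
        rw [pow_succ]; group
      rw [e, ht, ih, Matrix.mulVec_mulVec, pow_succ]
  rw [← map_pow]
  apply S.act_of_cent
  intro v
  have h2 := h1 k v
  rw [hA, Matrix.one_mulVec] at h2
  rw [Subgroup.coe_pow, map_pow, h, inv_pow, inv_inv]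
  nth_rw 1 [← h2]
  group

section hexa

variable [Nontrivial V] {c : ZMod 3} (H : Hex S.Om c)

include H

theorem alt_le_range : alternatingGroup {w // w ∈ S.Om} ≤ S.act.range := by
  obtain ⟨al, hal⟩ := S.exists_al'
  exact H.alt_le (al := fun i => S.act (al i)) (fun σ hσ => S.act_mem_range hσ) (fun i => ⟨al i, rfl⟩)
    (fun i => S.lin_al (hal i))

theorem exists_act_eq {σ : Perm {w // w ∈ S.Om}} (hσ : Perm.sign σ = 1) : ∃ m, S.act m = σ :=
  S.alt_le_range H (by rwa [Perm.mem_alternatingGroup])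

/-- induction over a point stabiliser, three-cycles -/
theorem stab_three {w0 : {w // w ∈ S.Om}} {Q : Subgroup S.Mh} (hker : ∀ m, S.act m = 1 → m ∈ Q)
    (h3 : ∀ τ : Perm {w // w ∈ S.Om}, τ.IsThreeCycle → τ w0 = w0 → ∃ m ∈ Q, S.act m = τ) {m : S.Mh}
    (hm : S.act m w0 = w0) : m ∈ Q := by
  have h1 : S.act m ∈ Q.map S.act := mem_of_three (w0 := w0) (fun τ hτ hτ0 => by
    obtain ⟨m', hm', he⟩ := h3 τ hτ hτ0
    exact ⟨m', hm', he⟩) (S.sign_act m) hm
  obtain ⟨m', hm', he⟩ := h1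
  have h2 : m * m'⁻¹ ∈ Q := hker _ (by rw [map_mul, map_inv, he, mul_inv_cancel])
  have h3 := Q.mul_mem h2 hm'
  rwa [inv_mul_cancel_right] at h3

/-- induction over a point stabiliser, commutators -/
theorem stab_comm {w0 : {w // w ∈ S.Om}} {Q : Subgroup S.Mh} (hker : ∀ m, S.act m = 1 → m ∈ Q)
    (h3 : ∀ m m' : S.Mh, S.act m w0 = w0 → S.act m' w0 = w0 → ⁅m, m'⁆ ∈ Q) {m : S.Mh}
    (hm : S.act m w0 = w0) : m ∈ Q := by
  have h1 : S.act m ∈ Q.map S.act := mem_of_comm H.fcard (w0 := w0) (fun σ τ hσ hτ hσ0 hτ0 => by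
    obtain ⟨a, rfl⟩ := S.exists_act_eq H hσ
    obtain ⟨b, rfl⟩ := S.exists_act_eq H hτ
    exact ⟨_, h3 a b hσ0 hτ0, map_commutatorElement _ _ _⟩) (S.sign_act m) hm
  obtain ⟨m', hm', he⟩ := h1
  have h2 : m * m'⁻¹ ∈ Q := hker _ (by rw [map_mul, map_inv, he, mul_inv_cancel])
  have h3 := Q.mul_mem h2 hm'
  rwa [inv_mul_cancel_right] at h3

/-- transitivity -/
theorem act_trans (a b : {w // w ∈ S.Om}) : ∃ m, S.act m a = b := by
  by_cases hab : a = b
  · exact ⟨1, by rw [map_one, hab]; rfl⟩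
  · obtain ⟨al, hal⟩ := S.exists_al'
    obtain ⟨σ, ⟨m, rfl⟩, h1, _⟩ := H.two_trans (G := S.act.range) (al := fun i => S.act (al i))
      (fun σ hσ => S.act_mem_range hσ) (fun i => ⟨al i, rfl⟩) (fun i => S.lin_al (hal i)) hab (Ne.symm hab)
    exact ⟨m, h1⟩

end hexa

/-- the subgroup `D`: elements of `M` moved into `M` by `g` -/
def Dh : Subgroup S.Mh where
  carrier := {m | D.g⁻¹ * S.π (m : P) * D.g ∈ Subgroup.closure D.gens}
  mul_mem' := by
    intro a b ha hb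
    have h : D.g⁻¹ * S.π ((a * b : S.Mh) : P) * D.g = (D.g⁻¹ * S.π (a : P) * D.g) * (D.g⁻¹ * S.π (b : P) * D.g) := by
      rw [Subgroup.coe_mul, map_mul]; group
    rw [Set.mem_setOf_eq, h]
    exact Subgroup.mul_mem _ ha hb
  one_mem' := by
    rw [Set.mem_setOf_eq, Subgroup.coe_one, map_one, mul_one, inv_mul_cancel]
    exact Subgroup.one_mem _
  inv_mem' := by
    intro a ha
    have h : D.g⁻¹ * S.π ((a⁻¹ : S.Mh) : P) * D.g = (D.g⁻¹ * S.π (a : P) * D.g)⁻¹ := by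
      rw [Subgroup.coe_inv, map_inv]; group
    rw [Set.mem_setOf_eq, h]
    exact Subgroup.inv_mem _ ha

theorem mem_Dh {m : S.Mh} : m ∈ S.Dh ↔ D.g⁻¹ * S.π (m : P) * D.g ∈ Subgroup.closure D.gens := Iff.rfl

/-- `D` is transitive on the weights -/
theorem Dh_trans [Nontrivial V] {c : ZMod 3} (H : Hex S.Om c) (a b : {w // w ∈ S.Om}) :
    ∃ m ∈ S.Dh, S.act m a = b := by
  obtain ⟨al, hal⟩ := S.exists_al'
  obtain ⟨be, hbe⟩ := S.exists_be
  have hbeD : be ∈ S.Dh := by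
    rw [mem_Dh, hbe]
    have h := Subgroup.inv_mem _ D.gh
    have e : D.g⁻¹ * D.h⁻¹ * D.g = (D.g⁻¹ * D.h * D.g)⁻¹ := by group
    rwa [e]
  have hal0 : al 0 ∈ S.Dh := by
    rw [mem_Dh, hal]
    have h : D.g⁻¹ * (D.a 0)⁻¹ * D.g = (D.g⁻¹ * D.a 0 * D.g)⁻¹ := by group
    rw [h, D.ga0]
    exact Subgroup.inv_mem _ (D.x_mem _)
  have hal1 : al 1 ∈ S.Dh := by
    rw [mem_Dh, hal]
    have h : D.g⁻¹ * (D.a 1)⁻¹ * D.g = (D.g⁻¹ * D.a 1 * D.g)⁻¹ := by group
    rw [h, D.ga1]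
    exact Subgroup.inv_mem _ (D.x_mem _)
  have h4 : S.act be ^ 4 = 1 := S.pow_act hbe D.act_h (by decide +kernel)
  have h03 : S.act (al 0) ^ 3 = 1 := S.pow_act (hal 0) (D.act_a 0) (by decide +kernel)
  have h13 : (S.act (al 1) * S.act (al 0)) ^ 3 = 1 := by
    rw [← map_mul]
    refine S.pow_act (t := D.a 0 * D.a 1) (A := Rm 0 * Rm 1) ?_ ?_ (by decide +kernel)
    · rw [Subgroup.coe_mul, map_mul, hal, hal, _root_.mul_inv_rev]
    · intro v
      have e : D.a 0 * D.a 1 * D.x v * (D.a 0 * D.a 1)⁻¹ = D.a 0 * (D.a 1 * D.x v * (D.a 1)⁻¹) * (D.a 0)⁻¹ := by group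
      rw [e, D.act_a, D.act_a, Matrix.mulVec_mulVec]
  obtain ⟨σ, ⟨m, hm, rfl⟩, h⟩ := H.trans_D (K := S.Dh.map S.act) ⟨be, hbeD, rfl⟩ ⟨al 0, hal0, rfl⟩ ⟨al 1, hal1, rfl⟩
    (S.lin_be hbe) (S.lin_al (hal 0)) (S.lin_al (hal 1)) h4 h03 h13 a b
  exact ⟨m, hm, h⟩

theorem X_mem (v : A4) : S.X v ∈ S.Mh := by
  rw [mem_Mh, S.X_pi]
  exact D.x_mem v

theorem X_mem_Dh {v : A4} (hv : v 3 = 0) : (⟨S.X v, S.X_mem v⟩ : S.Mh) ∈ S.Dh := by
  rw [mem_Dh, S.X_pi]
  exact D.gx v hv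

/-- an element inducing a three-cycle, conjugate to an element of the radical -/
theorem exists_tau [Nontrivial V] {c : ZMod 3} (H : Hex S.Om c) :
    ∃ m : S.Mh, (S.act m).IsThreeCycle ∧ D.g⁻¹ * S.π (m : P) * D.g = D.x (-vc c) := by
  obtain ⟨al, hal⟩ := S.exists_al'
  have hneg : ∀ v, D.x (-v) = (D.x v)⁻¹ := by
    intro v
    rw [eq_inv_iff_mul_eq_one, ← D.x_add, neg_add_cancel, ← S.X_pi, S.X_zero, map_one]
  rcases H.exists_three (G := S.act.range) (al := fun i => S.act (al i)) (fun i => ⟨al i, rfl⟩)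
    (fun i => S.lin_al (hal i)) with ⟨hc, h⟩ | ⟨hc, h⟩
  · refine ⟨al 0, h, ?_⟩
    rw [hal, hneg, hc, vc, if_pos rfl, ← D.ga0]
    group
  · refine ⟨al 1 * al 0, by rw [map_mul]; exact h, ?_⟩
    rw [Subgroup.coe_mul, map_mul, hal, hal, hneg, hc, vc, if_neg (by decide)]
    have e : (![0, 1, 1, 0] : A4) = ![0, 1, 0, 0] + ![0, 0, 1, 0] := by decide
    rw [e, D.x_add, ← D.ga0, ← D.ga1]
    group

end Sit

end Cfsg.Agent.H918.U43
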