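import Cfsg.Agent.H918.U43.Rep3

/-!
# Submodules for the parabolic (helper918)

If the stabilisers of the weights act by scalars on the weight spaces, then the parabolic is irreducible.
-/

set_option autoImplicit false
set_option maxRecDepth 20000

namespace Cfsg.Agent.H918.U43

open Matrix Module Equiv
open scoped commutatorElement

universe u v w z

variable {T : Type v} [Group T] {D : TD T} {F : Type u} [Field F] {V : Type w} [AddCommGroup V] [Module F V]
    {P : Type z} [Group P] (S : Sit D F V P)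

/-- the hyperplane -/
def K3 : AddSubgroup A4 where
  carrier := {v | v 3 = 0}
  add_mem' := by
    intro a b (ha : a 3 = 0) (hb : b 3 = 0)
    change a 3 + b 3 = 0
    rw [ha, hb, add_zero]
  zero_mem' := rfl
  neg_mem' := by
    intro a (ha : a 3 = 0)
    change -(a 3) = 0
    rw [ha, neg_zero]

theorem mem_K3 {v : A4} : v ∈ K3 ↔ v 3 = 0 := Iff.rfl

namespace Sit

include S

/-- stabilisers act by scalars -/
def Scal [Nontrivial V] : Prop :=
  ∀ (w : {w // w ∈ S.Om}) (m : S.Mh), S.act m w = w → ∃ a : F, ∀ y ∈ S.W w, S.ρ (m : P) y = a • y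

/-- invariance under the parabolic -/
def Inv (Y : Submodule F V) : Prop := ∀ (m : S.Mh), ∀ y ∈ Y, S.ρ (m : P) y ∈ Y

theorem pr_K3 {c : ZMod 3} (H : Hex S.Om c) (w : {w // w ∈ S.Om}) (y : V) : S.pr K3 (w : A4) y = S.prt (w : A4) y := by
  conv_lhs => rw [← S.sum_prt' y]
  rw [map_sum, Finset.sum_eq_single w]
  · exact S.pr_of_mem K3 (S.prt_mem _ _) fun _ _ => rfl
  · intro w' _ hw'
    by_contra hne
    apply hw'
    apply Subtype.ext
    refine H.separated w'.2 w.2 fun v hv => ?_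
    by_contra h
    exact hne (S.pr_of_mem_ne K3 (S.prt_mem _ _) (mem_K3.2 hv) h)
  · intro h; exact absurd (Finset.mem_univ _) h

/-- a submodule invariant under `D` is invariant under the parabolic -/
theorem inv_of_Dh [Nontrivial V] {c : ZMod 3} (H : Hex S.Om c) (hS : S.Scal) {Y : Submodule F V}
    (hY : ∀ m ∈ S.Dh, ∀ y ∈ Y, S.ρ (m : P) y ∈ Y) : S.Inv Y := by
  intro m y hy
  rw [← S.sum_prt' y, map_sum]
  refine Y.sum_mem fun w _ => ?_
  have h1 : S.prt (w : A4) y ∈ Y := by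
    rw [← S.pr_K3 H]
    exact S.pr_mem K3 (fun k hk y hy => hY ⟨S.X k, S.X_mem k⟩ (S.X_mem_Dh hk) y hy) _ hy
  obtain ⟨d, hd, he⟩ := S.Dh_trans H w (S.act m w)
  obtain ⟨a, ha⟩ := hS w (d⁻¹ * m) (by
    rw [map_mul, map_inv, Perm.mul_apply, ← he, invap])
  have h2 : S.ρ (m : P) (S.prt (w : A4) y) = a • S.ρ (d : P) (S.prt (w : A4) y) := by
    rw [← map_smul, ← ha _ (S.prt_mem _ _), ← S.mul_ap, ← Subgroup.coe_mul, mul_inv_cancel_left]
  rw [h2]
  exact Y.smul_mem _ (hY d hd _ h1)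

/-- elements permuting the invariant submodules -/
def Gd [Finite P] : Subgroup P where
  carrier := {p | ∀ Y, S.Inv Y → S.Inv (Y.map (S.ρ p))}
  mul_mem' := by
    intro a b ha hb Y hY
    rw [map_mul, Module.End.mul_eq_comp, Submodule.map_comp]
    exact ha _ (hb _ hY)
  one_mem' := by
    intro Y hY
    rw [map_one, Module.End.one_eq_id, Submodule.map_id]
    exact hY
  inv_mem' := by
    intro a ha
    have h1 : ∀ k : ℕ, ∀ Y, S.Inv Y → S.Inv (Y.map (S.ρ (a ^ k))) := by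
      intro k
      induction k with
      | zero =>
        intro Y hY
        rw [pow_zero, map_one, Module.End.one_eq_id, Submodule.map_id]
        exact hY
      | succ k ih =>
        intro Y hY
        rw [pow_succ, map_mul, Module.End.mul_eq_comp, Submodule.map_comp]
        exact ih _ (ha _ hY)
    have h2 : a⁻¹ = a ^ (orderOf a - 1) := by
      rw [inv_eq_iff_mul_eq_one, ← pow_succ']
      have := orderOf_pos a
      rw [Nat.sub_add_cancel this, pow_orderOf_eq_one]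
    intro Y hY
    rw [h2]
    exact h1 _ Y hY

theorem Gd_Mh [Finite P] : S.Mh ≤ S.Gd := by
  intro p hp Y hY m y hy
  obtain ⟨y', hy', rfl⟩ := hy
  refine ⟨S.ρ (p⁻¹ * (m : P) * p) y', hY ⟨_, S.Mh.mul_mem (S.Mh.mul_mem (S.Mh.inv_mem hp) m.2) hp⟩ _ hy', ?_⟩
  rw [← S.mul_ap, ← S.mul_ap]
  congr 2
  group

theorem eq_top_of [Finite P] {N : Subgroup P} (h1 : S.Mh ≤ N) (h2 : ∃ g ∈ N, S.π g = D.g) : N = ⊤ := by
  obtain ⟨g, hg, hg'⟩ := h2
  have h3 : N.map S.π = ⊤ := by
    rw [eq_top_iff, ← D.top, Subgroup.closure_le]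
    rintro t (ht | ht)
    · obtain ⟨p, rfl⟩ := S.surj t
      exact ⟨p, h1 ht, rfl⟩
    · rw [Set.mem_singleton_iff] at ht
      exact ⟨g, hg, by rw [hg', ht]⟩
  rw [eq_top_iff]
  intro p _
  have h4 : S.π p ∈ N.map S.π := by rw [h3]; trivial
  obtain ⟨q, hq, he⟩ := h4
  have h5 : p * q⁻¹ ∈ N := h1 (S.scalar_mem (by rw [map_mul, map_inv, he, mul_inv_cancel]))
  have h6 := N.mul_mem h5 hq
  rwa [inv_mul_cancel_right] at h6

theorem Gd_top [Finite P] [Nontrivial V] {c : ZMod 3} (H : Hex S.Om c) (hS : S.Scal) : S.Gd = ⊤ := by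
  obtain ⟨g, hg⟩ := S.surj D.g
  refine S.eq_top_of S.Gd_Mh ⟨g, ?_, hg⟩
  intro Y hY
  refine S.inv_of_Dh H hS ?_
  rintro m hm _ ⟨y, hy, rfl⟩
  have h1 : g⁻¹ * (m : P) * g ∈ S.Mh := by
    rw [mem_Mh, map_mul, map_mul, map_inv, hg]
    exact hm
  refine ⟨S.ρ (g⁻¹ * (m : P) * g) y, hY ⟨_, h1⟩ _ hy, ?_⟩
  rw [← S.mul_ap, ← S.mul_ap]
  congr 2
  group

/-- **The parabolic is irreducible.** -/
theorem inv_eq [Finite P] [Nontrivial V] [IsSimpleGroup T] {c : ZMod 3} (H : Hex S.Om c) (hS : S.Scal)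
    (hirr : ∀ Y : Submodule F V, (∀ p, ∀ y ∈ Y, S.ρ p y ∈ Y) → Y = ⊥ ∨ Y = ⊤) {Y : Submodule F V} (hY : S.Inv Y) :
    Y = ⊥ ∨ Y = ⊤ := by
  apply hirr
  -- the normal core of the stabiliser
  have hG := S.Gd_top H hS
  have key : ∀ m ∈ S.Mh, ∀ q : P, ∀ y ∈ Y, S.ρ (q⁻¹ * m * q) y ∈ Y := by
    intro m hm q y hy
    have hq : q ∈ S.Gd := by rw [hG]; trivial
    have h1 := hq Y hY ⟨m, hm⟩ (S.ρ q y) ⟨y, hy, rfl⟩
    obtain ⟨y', hy', he⟩ := h1
    have h2 : S.ρ (q⁻¹ * m * q) y = y' := by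
      apply S.ap_inj q
      rw [he, ← S.mul_ap, ← S.mul_ap]
      congr 2
      group
    rw [h2]
    exact hy'
  let N : Subgroup P :=
    { carrier := {p | ∀ q : P, (∀ y ∈ Y, S.ρ (q⁻¹ * p * q) y ∈ Y) ∧ (∀ y ∈ Y, S.ρ (q⁻¹ * p⁻¹ * q) y ∈ Y)}
      mul_mem' := by
        intro a b ha hb q
        constructor
        · intro y hy
          have e : q⁻¹ * (a * b) * q = (q⁻¹ * a * q) * (q⁻¹ * b * q) := by group
          rw [e, S.mul_ap]
          exact (ha q).1 _ ((hb q).1 _ hy)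
        · intro y hy
          have e : q⁻¹ * (a * b)⁻¹ * q = (q⁻¹ * b⁻¹ * q) * (q⁻¹ * a⁻¹ * q) := by group
          rw [e, S.mul_ap]
          exact (hb q).2 _ ((ha q).2 _ hy)
      one_mem' := by
        intro q
        constructor
        · intro y hy
          rw [mul_one, inv_mul_cancel, S.one_ap]; exact hy
        · intro y hy
          rw [inv_one, mul_one, inv_mul_cancel, S.one_ap]; exact hy
      inv_mem' := by
        intro a ha q
        refine ⟨(ha q).2, ?_⟩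
        rw [inv_inv]
        exact (ha q).1 }
  have hMN : S.Mh ≤ N := fun m hm q => ⟨key m hm q, key m⁻¹ (S.Mh.inv_mem hm) q⟩
  have hNn : N.Normal := by
    constructor
    intro n hn g q
    have e1 : q⁻¹ * (g * n * g⁻¹) * q = (g⁻¹ * q)⁻¹ * n * (g⁻¹ * q) := by group
    have e2 : q⁻¹ * (g * n * g⁻¹)⁻¹ * q = (g⁻¹ * q)⁻¹ * n⁻¹ * (g⁻¹ * q) := by group
    rw [e1, e2]
    exact hn (g⁻¹ * q)
  have hmap : N.map S.π = ⊤ := by
    have h1 : (N.map S.π).Normal := hNn.map S.π S.surj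
    rcases h1.eq_bot_or_eq_top with h | h
    · exfalso
      have h2 : S.π (S.X (Pi.single 0 1)) ∈ N.map S.π := ⟨_, hMN (S.X_mem _), rfl⟩
      rw [h, Subgroup.mem_bot, S.X_pi] at h2
      have h3 : D.x (Pi.single 0 1) = D.x 0 := by rw [h2, ← S.X_pi, S.X_zero, map_one]
      have h4 := congrFun (D.x_inj h3) 0
      rw [Pi.single_eq_same] at h4
      exact absurd h4 (by decide)
    · exact h
  have hN : N = ⊤ := by
    refine S.eq_top_of hMN ?_
    have h4 : D.g ∈ N.map S.π := by rw [hmap]; trivial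
    exact h4
  intro p y hy
  have hp : p ∈ N := by rw [hN]; trivial
  have h1 := (hp 1).1 y hy
  rwa [inv_one, one_mul, mul_one] at h1

/-- If the stabilisers act by scalars, the weights have multiplicity one. -/
theorem finrank_le_six [Finite P] [Nontrivial V] [FiniteDimensional F V] [IsSimpleGroup T] {c : ZMod 3}
    (H : Hex S.Om c) (hS : S.Scal)
    (hirr : ∀ Y : Submodule F V, (∀ p, ∀ y ∈ Y, S.ρ p y ∈ Y) → Y = ⊥ ∨ Y = ⊤) : finrank F V ≤ 6 := by
  have hne : Nonempty {w // w ∈ S.Om} := Fintype.card_pos_iff.1 (by rw [H.fcard]; norm_num)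
  obtain ⟨w0⟩ := hne
  obtain ⟨y0, hy0, hy00⟩ := S.exists_vec w0
  choose m hm using fun w => S.act_trans H w0 w
  -- the span of the `y w`
  set Y : Submodule F V := Submodule.span F (Set.range fun w : {w // w ∈ S.Om} => S.ρ (m w : P) y0) with hY
  have hmem : ∀ n : S.Mh, S.ρ (n : P) y0 ∈ Y := by
    intro n
    set w := S.act n w0 with hw
    obtain ⟨a, ha⟩ := hS w0 ((m w)⁻¹ * n) (by
      rw [map_mul, map_inv, Perm.mul_apply, ← hw]
      nth_rw 2 [← hm w]
      rw [invap])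
    have h1 : S.ρ (n : P) y0 = a • S.ρ (m w : P) y0 := by
      rw [← map_smul, ← ha _ hy0, ← S.mul_ap, ← Subgroup.coe_mul, mul_inv_cancel_left]
    rw [h1]
    exact Y.smul_mem _ (Submodule.subset_span ⟨w, rfl⟩)
  have hinv : S.Inv Y := by
    intro n y hy
    have h1 : Y ≤ Y.comap (S.ρ (n : P)) := by
      rw [hY, Submodule.span_le]
      rintro _ ⟨w, rfl⟩
      rw [SetLike.mem_coe, Submodule.mem_comap, ← S.mul_ap, ← Subgroup.coe_mul]
      exact hmem _
    exact h1 hy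
  rcases S.inv_eq H hS hirr hinv with h | h
  · exfalso
    have h1 := hmem 1
    rw [h, Submodule.mem_bot, Subgroup.coe_one, S.one_ap] at h1
    exact hy00 h1
  · have h1 : finrank F Y ≤ 6 := by
      rw [← H.fcard]
      exact finrank_range_le_card _
    rwa [h, finrank_top] at h1

end Sit

end Cfsg.Agent.H918.U43
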