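import Cfsg.Agent.H918.U43.Rep4

/-!
# Stabilisers of the weights act by scalars (helper918)
-/

set_option autoImplicit false
set_option maxRecDepth 20000

namespace Cfsg.Agent.H918.U43

open Matrix Module Equiv
open scoped commutatorElement

universe u v w z

variable {T : Type v} [Group T] {D : TD T} {F : Type u} [Field F] {V : Type w} [AddCommGroup V] [Module F V]
    {P : Type z} [Group P] (S : Sit D F V P)

theorem four_one_one {n : ZMod 3 → ℕ} (h1 : ∑ j, n j = 6) (h2 : ∑ j, n j ^ 2 = 18) (h0 : ∀ j, 0 < n j) :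
    ∃ j, n j = 4 := by
  have e1 : n 0 + n 1 + n 2 = 6 := by rw [← h1]; exact (Fin.sum_univ_three n).symm
  have e2 : n 0 ^ 2 + n 1 ^ 2 + n 2 ^ 2 = 18 := by rw [← h2]; exact (Fin.sum_univ_three fun j => n j ^ 2).symm
  by_contra hne
  push Not at hne
  have a0 := hne 0
  have a1 := hne 1
  have a2 := hne 2
  have b0 := h0 0
  have b1 := h0 1
  have b2 := h0 2
  generalize n 0 = x at *
  generalize n 1 = y at *
  generalize n 2 = z at *
  have hx : x ≤ 4 := by omega
  have hy : y ≤ 4 := by omega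
  interval_cases x <;> interval_cases y <;> first | omega | (have hz : z ≤ 4 := by omega) <;> interval_cases z <;> omega

namespace Sit

include S

theorem finrank_sup_le [FiniteDimensional F V] (B : Finset A4) :
    finrank F (B.sup S.W : Submodule F V) ≤ ∑ w ∈ B, finrank F (S.W w) := by
  classical
  induction B using Finset.induction_on with
  | empty => rw [Finset.sup_empty, finrank_bot, Finset.sum_empty]
  | insert a s ha ih =>
    rw [Finset.sup_insert, Finset.sum_insert ha]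
    exact (Submodule.finrank_add_le_finrank_add_finrank _ _).trans (Nat.add_le_add_left ih _)

theorem prt_X (w v : A4) (y : V) : S.prt w (S.ρ (S.X v) y) = S.ch (w ⬝ᵥ v) • S.prt w y := by
  conv_lhs => rw [← S.sum_prt y]
  rw [map_sum, map_sum, Finset.sum_eq_single w]
  · rw [S.prt_mem w y v, map_smul, S.prt_self (S.prt_mem w y)]
  · intro w' _ hw'
    rw [S.prt_mem w' y v, map_smul, S.prt_ne (S.prt_mem w' y) hw', smul_zero]
  · intro h; exact absurd (Finset.mem_univ _) h

theorem scal_one [Nontrivial V] (h1 : ∀ w ∈ S.Om, finrank F (S.W w) = 1) : S.Scal := by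
  intro w m hm
  obtain ⟨y0, hy0, hgen⟩ := finrank_eq_one_iff'.1 (h1 w w.2)
  have h2 : S.ρ (m : P) y0 ∈ S.W w := by
    have h3 := (S.act_spec m w y0).1 y0.2
    rwa [hm] at h3
  obtain ⟨a, ha⟩ := hgen ⟨_, h2⟩
  refine ⟨a, fun y hy => ?_⟩
  obtain ⟨b, hb⟩ := hgen ⟨y, hy⟩
  have ha' : a • (y0 : V) = S.ρ (m : P) y0 := congrArg Subtype.val ha
  have hb' : b • (y0 : V) = y := congrArg Subtype.val hb
  rw [← hb', map_smul, ← ha', smul_comm]

/-- **A three-cycle acts by a scalar on the weight spaces it fixes.** -/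
theorem tau_scalar [Nontrivial V] [FiniteDimensional F V] {c : ZMod 3} (H : Hex S.Om c)
    (h2 : ∀ w ∈ S.Om, finrank F (S.W w) = 2) {m : S.Mh} (h3 : (S.act m).IsThreeCycle)
    (hm : D.g⁻¹ * S.π (m : P) * D.g = D.x (-vc c)) (w : {w // w ∈ S.Om}) (hw : S.act m w = w) :
    ∃ a : F, ∀ y ∈ S.W w, S.ρ (m : P) y = a • y := by
  obtain ⟨g, hg⟩ := S.surj D.g
  set A0 : P := g * S.X (-vc c) * g⁻¹ with hA0
  have hπ : S.π (m : P) = S.π A0 := by
    rw [hA0, map_mul, map_mul, map_inv, hg, S.X_pi, ← hm]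
    group
  obtain ⟨ζ, hζ0, hζ⟩ := S.exists_scalar hπ
  have hcube : A0 * (A0 * A0) = 1 := by
    have e : A0 * (A0 * A0) = g * (S.X (-vc c) * (S.X (-vc c) * S.X (-vc c))) * g⁻¹ := by rw [hA0]; group
    have e2 : -vc c + (-vc c + -vc c) = 0 := by
      refine funext fun i => ?_
      have : ∀ a : ZMod 3, -a + (-a + -a) = 0 := by decide
      exact this (vc c i)
    rw [e, ← S.X_add, ← S.X_add, e2, S.X_zero]
    group
  -- the action of `A0` on weights
  have hact : ∀ (w : {w // w ∈ S.Om}) (y : V), y ∈ S.W w → S.ρ A0 y ∈ S.W (S.act m w) := by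
    intro w y hy
    have h4 := (S.act_spec m w y).1 hy
    rw [hζ] at h4
    rwa [Submodule.smul_mem_iff _ hζ0] at h4
  set σ := S.act m with hσ
  have hσ3 : ∀ u, σ (σ (σ u)) = u := by
    intro u
    have h4 : σ ^ 3 = 1 := by rw [← h3.orderOf, pow_orderOf_eq_one]
    have h5 : (σ ^ 3) u = u := by rw [h4]; rfl
    exact h5
  obtain ⟨w1, hw1⟩ : ∃ w1, σ w1 ≠ w1 := by
    by_contra hne
    push Not at hne
    exact h3.ne_one (Equiv.ext hne)
  set w2 := σ w1 with hw2
  set w3 := σ w2 with hw3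
  have h32 : w3 ≠ w2 := by
    intro h
    exact hw1 (σ.injective h)
  have h31 : w3 ≠ w1 := by
    intro h
    apply hw1
    have h4 := hσ3 w1
    rw [← hw2, ← hw3, h] at h4
    exact h4
  have hcoe : ∀ {a b : {w // w ∈ S.Om}}, a ≠ b → (a : A4) ≠ b := fun h h' => h (Subtype.ext h')
  -- every eigenvalue occurs
  have hocc : ∀ j : ZMod 3, ∃ u : {w // w ∈ S.Om}, (u : A4) ⬝ᵥ vc c = j := by
    intro j
    obtain ⟨y1, hy1, hy10⟩ := S.exists_vec w1
    set χ := S.ch (-j) with hχ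
    have hχ3 : χ ^ 3 = 1 := S.ch_cube _
    set z := y1 + χ ^ 2 • S.ρ A0 y1 + χ • S.ρ A0 (S.ρ A0 y1) with hz
    have hz1 : S.prt (w1 : A4) z = y1 := by
      rw [hz, map_add, map_add, map_smul, map_smul, S.prt_self hy1, S.prt_ne (hact w1 _ hy1) (hcoe hw1),
        S.prt_ne (hact w2 _ (hact w1 _ hy1)) (hcoe h31), smul_zero, smul_zero, add_zero, add_zero]
    have hz0 : z ≠ 0 := by
      intro h
      rw [h, map_zero] at hz1
      exact hy10 hz1.symm
    have hAz : S.ρ A0 z = χ • z := by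
      rw [hz, map_add, map_add, map_smul, map_smul, smul_add, smul_add, smul_smul, smul_smul]
      have e1 : S.ρ A0 (S.ρ A0 (S.ρ A0 y1)) = y1 := by rw [← S.mul_ap, ← S.mul_ap, mul_assoc, hcube, S.one_ap]
      have e2 : χ * χ ^ 2 = 1 := by rw [← hχ3]; ring
      rw [e1, e2, one_smul, ← pow_two]
      abel
    -- go back to `X`
    have hX : S.ρ (S.X (-vc c)) (S.ρ g⁻¹ z) = χ • S.ρ g⁻¹ z := by
      have e : S.ρ (S.X (-vc c)) (S.ρ g⁻¹ z) = S.ρ g⁻¹ (S.ρ A0 z) := by
        rw [← S.mul_ap, ← S.mul_ap, hA0]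
        congr 2
        group
      rw [e, hAz, map_smul]
    have hne : S.ρ g⁻¹ z ≠ 0 := by
      intro h
      apply hz0
      apply S.ap_inj g⁻¹
      rw [h, map_zero]
    have hex : ∃ u : {w // w ∈ S.Om}, S.prt (u : A4) (S.ρ g⁻¹ z) ≠ 0 := by
      by_contra hcon
      push Not at hcon
      apply hne
      rw [← S.sum_prt' (S.ρ g⁻¹ z)]
      exact Finset.sum_eq_zero fun u _ => hcon u
    obtain ⟨u, hu⟩ := hex
    refine ⟨u, ?_⟩
    have h4 := S.prt_X u (-vc c) (S.ρ g⁻¹ z)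
    rw [hX, map_smul] at h4
    have h5 : (χ - S.ch ((u : A4) ⬝ᵥ -vc c)) • S.prt (u : A4) (S.ρ g⁻¹ z) = 0 := by rw [sub_smul, h4, sub_self]
    rcases smul_eq_zero.1 h5 with h6 | h6
    · have h7 := S.ch_inj (sub_eq_zero.1 h6)
      rw [dotProduct_neg, neg_inj] at h7
      exact h7.symm
    · exact absurd h6 hu
  -- the distribution `(4, 1, 1)`
  have hdist := H.distrib
  obtain ⟨j0, hj0⟩ := four_one_one (n := fun j => (Finset.univ.filter fun w : {w // w ∈ S.Om} => (w : A4) ⬝ᵥ vc c = j).card)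
    (by
      rw [← H.fcard, ← Finset.card_univ]
      exact (Finset.card_eq_sum_card_fiberwise (fun w _ => Finset.mem_univ _)).symm) hdist (fun j => by
      obtain ⟨u, hu⟩ := hocc j
      exact Finset.card_pos.2 ⟨u, Finset.mem_filter.2 ⟨Finset.mem_univ _, hu⟩⟩)
  set χ := S.ch (-j0) with hχ
  -- the rank of `X - χ`
  set B : Finset A4 := S.Om.filter fun w => w ⬝ᵥ vc c ≠ j0 with hB
  have hBc : B.card = 2 := by
    have h4 : (S.Om.filter fun w => w ⬝ᵥ vc c = j0).card = 4 := by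
      refine Eq.trans ?_ hj0
      refine (Finset.card_bij (fun (w : {w // w ∈ S.Om}) _ => (w : A4)) ?_ ?_ ?_).symm
      · intro w hw
        rw [Finset.mem_filter] at hw ⊢
        exact ⟨w.2, hw.2⟩
      · intro a _ b _ h
        exact Subtype.ext h
      · intro b hb
        rw [Finset.mem_filter] at hb
        exact ⟨⟨b, hb.1⟩, Finset.mem_filter.2 ⟨Finset.mem_univ _, hb.2⟩, rfl⟩
    have h5 : (S.Om.filter fun w => w ⬝ᵥ vc c = j0).card + B.card = S.Om.card :=
      Finset.card_filter_add_card_filter_not (s := S.Om) (fun w => w ⬝ᵥ vc c = j0)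
    rw [h4, H.card] at h5
    omega
  set L' : Module.End F V := S.ρ (S.X (-vc c)) - χ • 1 with hL'
  have hL'ap : ∀ y, L' y = S.ρ (S.X (-vc c)) y - χ • y := fun y => rfl
  have hrange : LinearMap.range L' ≤ B.sup S.W := by
    rintro _ ⟨y, rfl⟩
    rw [← S.sum_prt' y, map_sum]
    refine Submodule.sum_mem _ fun u _ => ?_
    rw [hL'ap, S.prt_mem _ _ (-vc c), ← sub_smul]
    by_cases hu : (u : A4) ⬝ᵥ vc c = j0
    · rw [dotProduct_neg, hu, ← hχ, sub_self, zero_smul]
      exact Submodule.zero_mem _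
    · apply Submodule.smul_mem
      have h4 : S.W (u : A4) ≤ B.sup S.W := Finset.le_sup (f := S.W) (Finset.mem_filter.2 ⟨u.2, hu⟩)
      exact h4 (S.prt_mem _ _)
  have hrank' : finrank F (LinearMap.range L') ≤ 4 := by
    refine (Submodule.finrank_mono hrange).trans ((S.finrank_sup_le B).trans ?_)
    rw [Finset.sum_congr rfl fun w hw => h2 w (Finset.mem_filter.1 hw).1, Finset.sum_const, hBc]
    norm_num
  set L : Module.End F V := S.ρ A0 - χ • 1 with hL
  have hLap : ∀ y, L y = S.ρ A0 y - χ • y := fun y => rfl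
  have hrank : finrank F (LinearMap.range L) ≤ 4 := by
    have h4 : LinearMap.range L ≤ (LinearMap.range L').map (S.ρ g) := by
      rintro _ ⟨y, rfl⟩
      refine ⟨L' (S.ρ g⁻¹ y), ⟨_, rfl⟩, ?_⟩
      rw [hL'ap, hLap, map_sub, map_smul, ← S.mul_ap, ← S.mul_ap, ← S.mul_ap, hA0, mul_inv_cancel, S.one_ap, mul_assoc]
    exact (Submodule.finrank_mono h4).trans ((Submodule.finrank_map_le _ _).trans hrank')
  -- conclusion
  refine ⟨ζ * χ, fun y hy => ?_⟩
  rw [hζ, mul_smul]
  congr 1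
  by_contra hne
  have hww1 : w ≠ w1 := fun h => hw1 (by rw [hw2, ← h]; exact hw)
  have hww2 : w ≠ w2 := fun h => h32 (by rw [hw3, ← h]; exact hw)
  have hww3 : w ≠ w3 := fun h => h31 (by
    have h4 := hσ3 w1
    rw [← hw2, ← hw3, ← h] at h4
    rw [← h4, ← h]
    exact hw.symm)
  let Φ : (S.W (w1 : A4) × S.W (w2 : A4) × F) →ₗ[F] V :=
    L.comp (LinearMap.coprod (S.W (w1 : A4)).subtype (LinearMap.coprod (S.W (w2 : A4)).subtype
      (LinearMap.toSpanSingleton F V y)))
  have hΦ : ∀ a b k, Φ (a, b, k) = L ((a : V) + ((b : V) + k • y)) := fun a b k => rfl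
  have hinj : Function.Injective Φ := by
    rw [← LinearMap.ker_eq_bot, LinearMap.ker_eq_bot']
    rintro ⟨a, b, k⟩ h
    rw [hΦ, hLap, map_add, map_add, map_smul] at h
    have ha := a.2
    have hb := b.2
    have hAa := hact w1 _ ha
    have hAb := hact w2 _ hb
    have hAy := hact w _ hy
    rw [hw] at hAy
    -- project to `w3`
    have e3 := congrArg (S.prt (w3 : A4)) h
    rw [map_sub, map_add, map_add, map_smul, map_smul, map_add, map_add, map_smul, map_zero,
      S.prt_ne hAa (hcoe h32.symm), S.prt_self hAb, S.prt_ne hAy (hcoe hww3), S.prt_ne ha (hcoe h31.symm),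
      S.prt_ne hb (hcoe h32.symm), S.prt_ne hy (hcoe hww3)] at e3
    simp only [smul_zero, add_zero, zero_add, sub_zero] at e3
    have hb0 : (b : V) = 0 := S.ap_inj A0 (by rw [e3, map_zero])
    have e1 := congrArg (S.prt (w1 : A4)) h
    rw [hb0, map_zero, zero_add, zero_add, map_sub, map_add, map_smul, map_smul, map_add, map_smul, map_zero,
      S.prt_ne hAa (hcoe hw1), S.prt_ne hAy (hcoe hww1), S.prt_self ha, S.prt_ne hy (hcoe hww1)] at e1
    simp only [smul_zero, add_zero, zero_add, zero_sub, neg_eq_zero] at e1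
    have ha0 : (a : V) = 0 := by
      rcases smul_eq_zero.1 e1 with h4 | h4
      · exact absurd h4 (S.ch_ne_zero _)
      · exact h4
    have e0 : k • (S.ρ A0 y - χ • y) = 0 := by
      rw [hb0, ha0, map_zero, zero_add, zero_add, zero_add, zero_add] at h
      rw [smul_sub, smul_comm k χ]
      exact h
    have hk0 : k = 0 := by
      rcases smul_eq_zero.1 e0 with h4 | h4
      · exact h4
      · exact absurd (sub_eq_zero.1 h4) hne
    rw [hk0]
    exact Prod.ext (Subtype.ext ha0) (Prod.ext (Subtype.ext hb0) rfl)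
  have h5 : finrank F (LinearMap.range Φ) = 5 := by
    rw [LinearMap.finrank_range_of_inj hinj, Module.finrank_prod, Module.finrank_prod, h2 _ w1.2, h2 _ w2.2,
      Module.finrank_self]
  have h6 : LinearMap.range Φ ≤ LinearMap.range L := LinearMap.range_comp_le_range _ _
  have h7 := Submodule.finrank_mono h6
  omega

/-- stabilisers act by scalars, multiplicity two -/
theorem scal_two [Nontrivial V] [FiniteDimensional F V] {c : ZMod 3} (H : Hex S.Om c)
    (h2 : ∀ w ∈ S.Om, finrank F (S.W w) = 2) : S.Scal := by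
  intro w0 m hm
  obtain ⟨t, ht3, ht⟩ := S.exists_tau H
  -- the subgroup of elements acting by scalars
  let Q : Subgroup S.Mh :=
    { carrier := {m | S.act m w0 = w0 ∧ ∃ a : F, a ≠ 0 ∧ ∀ y ∈ S.W w0, S.ρ (m : P) y = a • y}
      mul_mem' := by
        rintro a b ⟨ha, ka, ka0, hka⟩ ⟨hb, kb, kb0, hkb⟩
        refine ⟨by rw [map_mul, Perm.mul_apply, hb, ha], ka * kb, mul_ne_zero ka0 kb0, fun y hy => ?_⟩
        rw [Subgroup.coe_mul, S.mul_ap, hkb y hy, map_smul, hka y hy, smul_smul, mul_comm]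
      one_mem' := ⟨by rw [map_one]; rfl, 1, one_ne_zero, fun y _ => by rw [Subgroup.coe_one, S.one_ap, one_smul]⟩
      inv_mem' := by
        rintro a ⟨ha, ka, ka0, hka⟩
        refine ⟨?_, ka⁻¹, inv_ne_zero ka0, fun y hy => ?_⟩
        · rw [map_inv]
          nth_rw 1 [← ha]
          rw [invap]
        · apply S.ap_inj (a : P)
          rw [← S.mul_ap, Subgroup.coe_inv, mul_inv_cancel, S.one_ap, map_smul, hka y hy, smul_smul,
            inv_mul_cancel₀ ka0, one_smul] }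
  have hnz : ∀ (w : {w // w ∈ S.Om}) (m : S.Mh) (a : F), (∀ y ∈ S.W w, S.ρ (m : P) y = a • y) → a ≠ 0 := by
    intro w m a ha h0
    obtain ⟨y, hy, hy0⟩ := S.exists_vec w
    apply hy0
    apply S.ap_inj (m : P)
    rw [ha y hy, h0, zero_smul, map_zero]
  have hmem : m ∈ Q := by
    refine S.stab_three H (w0 := w0) (fun m' hm' => ?_) (fun τ hτ hτ0 => ?_) hm
    · obtain ⟨a, ha⟩ := S.ker_scalar H hm' w0
      exact ⟨by rw [hm']; rfl, a, hnz _ _ _ ha, ha⟩
    · -- conjugate to `t`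
      have hc := alternatingGroup.isThreeCycle_isConj (α := {w // w ∈ S.Om}) (by
        rw [Nat.card_eq_fintype_card, H.fcard]; norm_num)
        (σ := ⟨S.act t, ht3.mem_alternatingGroup⟩) (τ := ⟨τ, hτ.mem_alternatingGroup⟩) ht3 hτ
      obtain ⟨⟨κ, hκ⟩, hκe⟩ := isConj_iff.1 hc
      have he : κ * S.act t * κ⁻¹ = τ := congrArg Subtype.val hκe
      obtain ⟨k, hk⟩ := S.exists_act_eq H (Perm.mem_alternatingGroup.1 hκ)
      have hfix : S.act t (S.act k⁻¹ w0) = S.act k⁻¹ w0 := by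
        rw [map_inv, hk]
        have h5 : (κ * S.act t * κ⁻¹) w0 = w0 := by rw [he, hτ0]
        rw [Perm.mul_apply, Perm.mul_apply] at h5
        nth_rw 2 [← h5]
        rw [invap]
      obtain ⟨a, ha⟩ := S.tau_scalar H h2 ht3 ht (S.act k⁻¹ w0) hfix
      refine ⟨k * t * k⁻¹, ⟨?_, a, hnz _ _ _ ha, fun y hy => ?_⟩, ?_⟩
      · rw [map_mul, map_mul, map_inv, hk, he, hτ0]
      · have h6 : S.ρ ((k⁻¹ : S.Mh) : P) y ∈ S.W (S.act k⁻¹ w0) := (S.act_spec k⁻¹ w0 y).1 hy
        rw [Subgroup.coe_mul, Subgroup.coe_mul, S.mul_ap, S.mul_ap, ha _ h6, map_smul, ← S.mul_ap,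
          Subgroup.coe_inv, mul_inv_cancel, S.one_ap]
      · rw [map_mul, map_mul, map_inv, hk, he]
  obtain ⟨_, a, _, ha⟩ := hmem
  exact ⟨a, ha⟩

/-- **The degree is six.** -/
theorem degree [Finite P] [Nontrivial V] [FiniteDimensional F V] [IsSimpleGroup T] (hn : finrank F V ≤ 12)
    (hirr : ∀ Y : Submodule F V, (∀ p, ∀ y ∈ Y, S.ρ p y ∈ Y) → Y = ⊥ ∨ Y = ⊤) :
    finrank F V = 6 ∧ ∃ c, Hex S.Om c ∧ (∀ w ∈ S.Om, finrank F (S.W w) = 1) ∧ S.Scal := by
  obtain ⟨c, H, μ, hμ, hW, hV⟩ := S.hex hn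
  rcases hμ with rfl | rfl
  · exact ⟨by rw [hV], c, H, hW, S.scal_one hW⟩
  · exfalso
    have h1 := S.finrank_le_six H (S.scal_two H hW) hirr
    omega

end Sit

end Cfsg.Agent.H918.U43
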