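import Cfsg.Agent.H918.U43.Rep5

/-!
# Degree six: the parabolic is monomial with entries sixth roots of unity (helper918)
-/

set_option autoImplicit false
set_option maxRecDepth 20000

namespace Cfsg.Agent.H918.U43

open Matrix Module Equiv
open scoped commutatorElement

universe u v w z

variable {T : Type v} [Group T] {D : TD T} {F : Type u} [Field F] {V : Type w} [AddCommGroup V] [Module F V]
    {P : Type z} [Group P] (S : Sit D F V P)

namespace Sit

include S

/-- the scalars on stabilisers are sixth roots of unity -/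
theorem lam_six [Nontrivial V] {c : ZMod 3} (H : Hex S.Om c) (hS : S.Scal)
    (h6 : ∀ (z : P) (a : F), S.ρ z = a • 1 → a ^ 6 = 1) (w0 : {w // w ∈ S.Om}) (m : S.Mh) (hm : S.act m w0 = w0) :
    ∃ a : F, a ^ 6 = 1 ∧ ∀ y ∈ S.W w0, S.ρ (m : P) y = a • y := by
  let Q : Subgroup S.Mh :=
    { carrier := {m | S.act m w0 = w0 ∧ ∃ a : F, a ^ 6 = 1 ∧ ∀ y ∈ S.W w0, S.ρ (m : P) y = a • y}
      mul_mem' := by
        rintro a b ⟨ha, ka, ka0, hka⟩ ⟨hb, kb, kb0, hkb⟩
        refine ⟨by rw [map_mul, Perm.mul_apply, hb, ha], ka * kb, by rw [mul_pow, ka0, kb0, one_mul], fun y hy => ?_⟩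
        rw [Subgroup.coe_mul, S.mul_ap, hkb y hy, map_smul, hka y hy, smul_smul, mul_comm]
      one_mem' := ⟨by rw [map_one]; rfl, 1, one_pow _, fun y _ => by rw [Subgroup.coe_one, S.one_ap, one_smul]⟩
      inv_mem' := by
        rintro a ⟨ha, ka, ka0, hka⟩
        have ka1 : ka ≠ 0 := by
          rintro rfl
          norm_num at ka0
        refine ⟨?_, ka⁻¹, by rw [inv_pow, ka0, inv_one], fun y hy => ?_⟩
        · rw [map_inv]
          nth_rw 1 [← ha]
          rw [invap]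
        · apply S.ap_inj (a : P)
          rw [← S.mul_ap, Subgroup.coe_inv, mul_inv_cancel, S.one_ap, map_smul, hka y hy, smul_smul,
            inv_mul_cancel₀ ka1, one_smul] }
  have hmem : m ∈ Q := by
    refine S.stab_comm H (w0 := w0) (fun m' hm' => ?_) (fun a b ha hb => ?_) hm
    · refine ⟨by rw [hm']; rfl, ?_⟩
      obtain ⟨v, hv⟩ := S.ker_act H hm'
      have h1 : S.π ((m' : P) * (S.X v)⁻¹) = 1 := by rw [map_mul, map_inv, hv, S.X_pi, mul_inv_cancel]
      obtain ⟨a, ha⟩ := (S.ker _).1 h1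
      refine ⟨a * S.ch (w0 ⬝ᵥ v), ?_, fun y hy => ?_⟩
      · rw [mul_pow, h6 _ a ha, one_mul, show (6 : ℕ) = 3 * 2 from rfl, pow_mul, S.ch_cube, one_pow]
      · have h2 : S.ρ (m' : P) y = S.ρ ((m' : P) * (S.X v)⁻¹) (S.ρ (S.X v) y) := by
          rw [← S.mul_ap, inv_mul_cancel_right]
        rw [h2, ha, hy v, mul_smul]
        rfl
    · obtain ⟨ka, hka⟩ := hS w0 a ha
      obtain ⟨kb, hkb⟩ := hS w0 b hb
      have ha' : S.act a⁻¹ w0 = w0 := by
        rw [map_inv]
        nth_rw 1 [← ha]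
        rw [invap]
      have hb' : S.act b⁻¹ w0 = w0 := by
        rw [map_inv]
        nth_rw 1 [← hb]
        rw [invap]
      obtain ⟨la, hla⟩ := hS w0 a⁻¹ ha'
      obtain ⟨lb, hlb⟩ := hS w0 b⁻¹ hb'
      refine ⟨?_, 1, one_pow _, fun y hy => ?_⟩
      · rw [commutatorElement_def, map_mul, map_mul, map_mul, Perm.mul_apply, Perm.mul_apply, Perm.mul_apply, hb', ha',
          hb, ha]
      · have e1 : S.ρ (a : P) (S.ρ ((a⁻¹ : S.Mh) : P) y) = y := by
          rw [← S.mul_ap, Subgroup.coe_inv, mul_inv_cancel, S.one_ap]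
        have e2 : S.ρ (b : P) (S.ρ ((b⁻¹ : S.Mh) : P) y) = y := by
          rw [← S.mul_ap, Subgroup.coe_inv, mul_inv_cancel, S.one_ap]
        rw [hla y hy, map_smul, hka y hy, smul_smul] at e1
        rw [hlb y hy, map_smul, hkb y hy, smul_smul] at e2
        have e4 : S.ρ ((⁅a, b⁆ : S.Mh) : P) y = (lb * (la * (kb * ka))) • y := by
          simp only [commutatorElement_def, Subgroup.coe_mul, S.mul_ap]
          simp only [hlb y hy, map_smul, hla y hy, hkb y hy, hka y hy, smul_smul]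
          rw [mul_assoc, mul_assoc]
        have e3 : lb * (la * (kb * ka)) = (la * ka) * (lb * kb) := by ring
        rw [e4, e3, mul_smul, e2, e1, one_smul]
  obtain ⟨_, a, h, ha⟩ := hmem
  exact ⟨a, h, ha⟩

/-- **Monomial basis.** -/
theorem exists_basis [Nontrivial V] {c : ZMod 3} (H : Hex S.Om c) (hS : S.Scal)
    (h6 : ∀ (z : P) (a : F), S.ρ z = a • 1 → a ^ 6 = 1) :
    ∃ y : {w // w ∈ S.Om} → V, (∀ w : {w // w ∈ S.Om}, y w ∈ S.W w) ∧ (∀ w, y w ≠ 0) ∧
      ∀ (m : S.Mh) w, ∃ a : F, a ^ 6 = 1 ∧ S.ρ (m : P) (y w) = a • y (S.act m w) := by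
  have hne : Nonempty {w // w ∈ S.Om} := Fintype.card_pos_iff.1 (by rw [H.fcard]; norm_num)
  obtain ⟨w0⟩ := hne
  obtain ⟨y0, hy0, hy00⟩ := S.exists_vec w0
  choose n hn using fun w => S.act_trans H w0 w
  refine ⟨fun w => S.ρ (n w : P) y0, fun w => ?_, fun w h => ?_, fun m w => ?_⟩
  · have h1 := (S.act_spec (n w) w0 y0).1 hy0
    rwa [hn] at h1
  · apply hy00
    apply S.ap_inj (n w : P)
    rw [map_zero]
    exact h
  · obtain ⟨a, ha6, ha⟩ := S.lam_six H hS h6 w0 ((n (S.act m w))⁻¹ * (m * n w)) (by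
      rw [map_mul, map_inv, Perm.mul_apply, map_mul, Perm.mul_apply, hn]
      nth_rw 2 [← hn (S.act m w)]
      rw [invap])
    refine ⟨a, ha6, ?_⟩
    rw [← map_smul, ← ha _ hy0, ← S.mul_ap, ← S.mul_ap, ← Subgroup.coe_mul, ← Subgroup.coe_mul, mul_inv_cancel_left]

/-- the basis is linearly independent -/
theorem linInd {y : {w // w ∈ S.Om} → V} (hy : ∀ w : {w // w ∈ S.Om}, y w ∈ S.W w) (hy0 : ∀ w, y w ≠ 0) : LinearIndependent F y := by
  rw [Fintype.linearIndependent_iff]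
  intro k hk w
  have h1 := congrArg (S.prt (w : A4)) hk
  rw [map_sum, map_zero, Finset.sum_eq_single w] at h1
  · rw [map_smul, S.prt_self (hy w)] at h1
    rcases smul_eq_zero.1 h1 with h2 | h2
    · exact h2
    · exact absurd h2 (hy0 w)
  · intro w' _ hw'
    rw [map_smul, S.prt_ne (hy w') fun h => hw' (Subtype.ext h), smul_zero]
  · intro h; exact absurd (Finset.mem_univ _) h

/-- **Only scalars commute with `D`.** -/
theorem comm_Dh [Nontrivial V] {c : ZMod 3} (H : Hex S.Om c) (h1 : ∀ w ∈ S.Om, finrank F (S.W w) = 1) {Z : Module.End F V}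
    (hZ : ∀ m ∈ S.Dh, ∀ y, Z (S.ρ (m : P) y) = S.ρ (m : P) (Z y)) : ∃ a : F, ∀ y, Z y = a • y := by
  have hpr : ∀ (w : {w // w ∈ S.Om}) (y : V), Z (S.prt (w : A4) y) = S.prt (w : A4) (Z y) := by
    intro w y
    rw [← S.pr_K3 H, ← S.pr_K3 H, S.pr_apply, S.pr_apply, map_smul, map_sum]
    congr 1
    refine Finset.sum_congr rfl fun k _ => ?_
    rw [map_smul, hZ ⟨S.X k, S.X_mem _⟩ (S.X_mem_Dh k.2)]
  have hW : ∀ (w : {w // w ∈ S.Om}) (y : V), y ∈ S.W w → Z y ∈ S.W w := by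
    intro w y hy
    have h2 := hpr w y
    rw [S.prt_self hy] at h2
    rw [h2]
    exact S.prt_mem _ _
  have hsc : ∀ w : {w // w ∈ S.Om}, ∃ a : F, ∀ y ∈ S.W w, Z y = a • y := by
    intro w
    obtain ⟨y0, hy0, hgen⟩ := finrank_eq_one_iff'.1 (h1 w w.2)
    obtain ⟨a, ha⟩ := hgen ⟨_, hW w y0 y0.2⟩
    refine ⟨a, fun y hy => ?_⟩
    obtain ⟨b, hb⟩ := hgen ⟨y, hy⟩
    have ha' : a • (y0 : V) = Z y0 := congrArg Subtype.val ha
    have hb' : b • (y0 : V) = y := congrArg Subtype.val hb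
    rw [← hb', map_smul, ← ha', smul_comm]
  choose a ha using hsc
  have hne : Nonempty {w // w ∈ S.Om} := Fintype.card_pos_iff.1 (by rw [H.fcard]; norm_num)
  obtain ⟨w0⟩ := hne
  obtain ⟨y0, hy0, hy00⟩ := S.exists_vec w0
  have hall : ∀ w, a w = a w0 := by
    intro w
    obtain ⟨m, hm, he⟩ := S.Dh_trans H w0 w
    have h2 : S.ρ (m : P) y0 ∈ S.W w := by
      have h3 := (S.act_spec m w0 y0).1 hy0
      rwa [he] at h3
    have h3 := ha w _ h2
    rw [hZ m hm, ha w0 _ hy0, map_smul] at h3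
    have h4 : (a w - a w0) • S.ρ (m : P) y0 = 0 := by rw [sub_smul, h3, sub_self]
    rcases smul_eq_zero.1 h4 with h5 | h5
    · exact sub_eq_zero.1 h5
    · exfalso
      apply hy00
      apply S.ap_inj (m : P)
      rw [h5, map_zero]
  refine ⟨a w0, fun y => ?_⟩
  rw [← S.sum_prt' y, map_sum, Finset.smul_sum]
  refine Finset.sum_congr rfl fun w _ => ?_
  rw [ha w _ (S.prt_mem _ _), hall]

end Sit

end Cfsg.Agent.H918.U43
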