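import Cfsg.Agent.H918.U43.TMat

/-!
# Coordinates of the radical `3⁴` and the action matrices (helper918)
-/

set_option autoImplicit false
set_option maxRecDepth 20000

namespace Cfsg.Agent.H918.U43

open Cfsg Matrix Cfsg.Agent.ChevalleyStructure.NineField

/-- the radical -/
abbrev A4 := Fin 4 → ZMod 3

def RU (a b : ZMod 3) : Matrix (Fin 4) (Fin 4) (ZMod 3) :=
  !![1, -a, -b, a * a + b * b; 0, 1, 0, a; 0, 0, 1, b; 0, 0, 0, 1]

def RL (a b : ZMod 3) : Matrix (Fin 4) (Fin 4) (ZMod 3) :=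
  !![1, 0, 0, 0; a, 1, 0, 0; -b, 0, 1, 0; a * a + b * b, -a, b, 1]

def RH : Matrix (Fin 4) (Fin 4) (ZMod 3) := !![-1, 0, 0, 0; 0, 0, -1, 0; 0, 1, 0, 0; 0, 0, 0, -1]

/-- the four letters -/
def Rm : Fin 4 → Matrix (Fin 4) (Fin 4) (ZMod 3) := ![RU 1 0, RU 0 1, RL 1 0, RL 0 1]

/-- skew-hermitian matrices -/
def Cm (v : A4) : Matrix (Fin 2) (Fin 2) F9 := !![⟨0, v 0⟩, ⟨-v 2, v 1⟩; ⟨v 2, v 1⟩, ⟨0, v 3⟩]

theorem Cm_add (v w : A4) : Cm (v + w) = Cm v + Cm w := by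
  refine Matrix.ext fun i j => ?_
  fin_cases i <;> fin_cases j
  · exact F9.ext (by decide : (0 : Fin 3) = 0 + 0) rfl
  · exact F9.ext (neg_add (v 2 : ZMod 3) (w 2)) rfl
  · exact F9.ext rfl rfl
  · exact F9.ext (by decide : (0 : Fin 3) = 0 + 0) rfl

theorem Cm_inj : Function.Injective Cm := by
  intro v w h
  have h00 := congrFun (congrFun h 0) 0
  have h10 := congrFun (congrFun h 1) 0
  have h11 := congrFun (congrFun h 1) 1
  refine funext fun i => ?_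
  fin_cases i
  · exact congrArg F9.im h00
  · exact congrArg F9.im h10
  · exact congrArg F9.re h10
  · exact congrArg F9.im h11

theorem Cm_skew (v : A4) : st (Cm v) = - Cm v := by
  refine Matrix.ext fun i j => ?_
  rw [st_apply]
  have k1 : ∀ x : ZMod 3, cj (⟨0, x⟩ : F9) = -⟨0, x⟩ := by decide +kernel
  have k2 : ∀ x y : ZMod 3, cj (⟨x, y⟩ : F9) = -(⟨-x, y⟩ : F9) := by decide +kernel
  have k3 : ∀ x y : ZMod 3, cj (⟨-x, y⟩ : F9) = -(⟨x, y⟩ : F9) := by decide +kernel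
  fin_cases i <;> fin_cases j
  · exact k1 (v 0)
  · exact k2 (v 2) (v 1)
  · exact k3 (v 2) (v 1)
  · exact k1 (v 3)

theorem exists_Cm {C : Matrix (Fin 2) (Fin 2) F9} (hC : st C = -C) : ∃ v, C = Cm v := by
  have k1 : ∀ x : F9, cj x = -x → x = ⟨0, x.im⟩ := by decide +kernel
  have k2 : ∀ x y : F9, cj x = - y → y = ⟨-x.re, x.im⟩ := by decide +kernel
  have e00 := congrFun (congrFun hC 0) 0
  have e01 := congrFun (congrFun hC 0) 1
  have e11 := congrFun (congrFun hC 1) 1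
  rw [st_apply, Matrix.neg_apply] at e00 e01 e11
  refine ⟨![(C 0 0).im, (C 1 0).im, (C 1 0).re, (C 1 1).im], Matrix.ext fun i j => ?_⟩
  fin_cases i <;> fin_cases j
  · exact k1 _ e00
  · exact k2 _ _ e01
  · exact F9.ext rfl rfl
  · exact k1 _ e11

theorem skew_conj {A C : Matrix (Fin 2) (Fin 2) F9} (hC : st C = -C) : st (A * C * st A) = -(A * C * st A) := by
  rw [st_mul, st_mul, st_st, hC, Matrix.neg_mul, Matrix.mul_neg, Matrix.mul_assoc]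

/-! ### the four letters and `h` -/

def uM (a : F9) : Matrix (Fin 2) (Fin 2) F9 := !![1, a; 0, 1]
def lM (a : F9) : Matrix (Fin 2) (Fin 2) F9 := !![1, 0; a, 1]
def hM (a b : F9) : Matrix (Fin 2) (Fin 2) F9 := !![a, 0; 0, b]

theorem vec4 (v : A4) : v = ![v 0, v 1, v 2, v 3] := by
  refine funext fun i => ?_
  fin_cases i <;> rfl

theorem act_u0 (v : A4) : uM ⟨1, 0⟩ * Cm v * st (uM ⟨1, 0⟩) = Cm (RU 1 0 *ᵥ v) := by
  have h : ∀ a b c d : ZMod 3, uM ⟨1, 0⟩ * Cm ![a, b, c, d] * st (uM ⟨1, 0⟩) = Cm (RU 1 0 *ᵥ ![a, b, c, d]) := by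
    decide +kernel
  rw [vec4 v]
  exact h _ _ _ _

theorem act_u1 (v : A4) : uM ⟨0, 1⟩ * Cm v * st (uM ⟨0, 1⟩) = Cm (RU 0 1 *ᵥ v) := by
  have h : ∀ a b c d : ZMod 3, uM ⟨0, 1⟩ * Cm ![a, b, c, d] * st (uM ⟨0, 1⟩) = Cm (RU 0 1 *ᵥ ![a, b, c, d]) := by
    decide +kernel
  rw [vec4 v]
  exact h _ _ _ _

theorem act_l0 (v : A4) : lM ⟨1, 0⟩ * Cm v * st (lM ⟨1, 0⟩) = Cm (RL 1 0 *ᵥ v) := by
  have h : ∀ a b c d : ZMod 3, lM ⟨1, 0⟩ * Cm ![a, b, c, d] * st (lM ⟨1, 0⟩) = Cm (RL 1 0 *ᵥ ![a, b, c, d]) := by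
    decide +kernel
  rw [vec4 v]
  exact h _ _ _ _

theorem act_l1 (v : A4) : lM ⟨0, 1⟩ * Cm v * st (lM ⟨0, 1⟩) = Cm (RL 0 1 *ᵥ v) := by
  have h : ∀ a b c d : ZMod 3, lM ⟨0, 1⟩ * Cm ![a, b, c, d] * st (lM ⟨0, 1⟩) = Cm (RL 0 1 *ᵥ ![a, b, c, d]) := by
    decide +kernel
  rw [vec4 v]
  exact h _ _ _ _

theorem act_hM (v : A4) : hM ⟨1, 1⟩ ⟨2, 1⟩ * Cm v * st (hM ⟨1, 1⟩ ⟨2, 1⟩) = Cm (RH *ᵥ v) := by
  have h : ∀ a b c d : ZMod 3, hM ⟨1, 1⟩ ⟨2, 1⟩ * Cm ![a, b, c, d] * st (hM ⟨1, 1⟩ ⟨2, 1⟩) =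
      Cm (RH *ᵥ ![a, b, c, d]) := by
    decide +kernel
  rw [vec4 v]
  exact h _ _ _ _

theorem uM_mul (a b : F9) : uM a * uM b = uM (a + b) := by revert a b; decide +kernel
theorem lM_mul (a b : F9) : lM a * lM b = lM (a + b) := by revert a b; decide +kernel
theorem uM_zero : uM 0 = 1 := by decide +kernel
theorem lM_zero : lM 0 = 1 := by decide +kernel

theorem uM_inv (a : F9) : uM a * uM (-a) = 1 := by rw [uM_mul, add_neg_cancel, uM_zero]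
theorem lM_inv (a : F9) : lM a * lM (-a) = 1 := by rw [lM_mul, add_neg_cancel, lM_zero]

theorem add_three (a : F9) : a + a + a = 0 := by revert a; decide +kernel

/-- `SL_2` is generated by elementary matrices -/
theorem sl_gen (S : Set (Matrix (Fin 2) (Fin 2) F9)) (hu : ∀ a, uM a ∈ S) (hl : ∀ a, lM a ∈ S)
    (hmul : ∀ A B, A ∈ S → B ∈ S → A * B ∈ S) (A : Matrix (Fin 2) (Fin 2) F9) (hA : A.det = 1) : A ∈ S := by
  have key : ∀ a b c d : F9, a * d - b * c = 1 → c ≠ 0 →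
      !![a, b; c, d] = uM ((a - 1) * c⁻¹) * lM c * uM ((d - 1) * c⁻¹) := by decide +kernel
  have h1 : ∀ A : Matrix (Fin 2) (Fin 2) F9, A.det = 1 → A 1 0 ≠ 0 → A ∈ S := by
    intro A hA hc
    rw [Matrix.det_fin_two] at hA
    rw [Matrix.eta_fin_two A, key _ _ _ _ hA hc]
    exact hmul _ _ (hmul _ _ (hu _) (hl _)) (hu _)
  by_cases hc : A 1 0 = 0
  · have h2 : A * lM 1 ∈ S := by
      apply h1
      · rw [Matrix.det_mul, hA, one_mul]; decide +kernel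
      · have h3 : (A * lM 1) 1 0 = A 1 0 + A 1 1 := by
          rw [Matrix.mul_apply, Fin.sum_univ_two]
          change A 1 0 * 1 + A 1 1 * 1 = _
          rw [mul_one, mul_one]
        rw [h3, hc, zero_add]
        intro h4
        rw [Matrix.det_fin_two, hc, h4, mul_zero, mul_zero, sub_zero] at hA
        exact absurd hA (by decide +kernel)
    have h3 : A = A * lM 1 * lM (-1) := by rw [Matrix.mul_assoc, lM_inv, Matrix.mul_one]
    rw [h3]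
    exact hmul _ _ h2 (hl _)
  · exact h1 A hA hc

/-- the pointwise stabiliser of the radical in `SL_2` -/
theorem sl_cent {A : Matrix (Fin 2) (Fin 2) F9} (hA : A.det = 1) (h : ∀ v, A * Cm v * st A = Cm v) :
    A = 1 ∨ A = -1 := by
  have k : ∀ a b c d : F9, a * d - b * c = 1 →
      (!![a, b; c, d] * Cm ![1, 0, 0, 0] * st !![a, b; c, d] = Cm ![1, 0, 0, 0]) →
      (!![a, b; c, d] * Cm ![0, 0, 0, 1] * st !![a, b; c, d] = Cm ![0, 0, 0, 1]) →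
      (!![a, b; c, d] * Cm ![0, 0, 1, 0] * st !![a, b; c, d] = Cm ![0, 0, 1, 0]) →
      !![a, b; c, d] = 1 ∨ !![a, b; c, d] = -1 := by
    decide +kernel
  rw [Matrix.det_fin_two] at hA
  have e := Matrix.eta_fin_two A
  rw [e] at h ⊢
  exact k _ _ _ _ hA (h _) (h _) (h _)

end Cfsg.Agent.H918.U43
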