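import Cfsg.Agent.H918.U43.TCoord
import Cfsg.Agent.H876.SingMax
import Cfsg.Agent.LieClassical.FieldTransfer

/-!
# The parabolic `3⁴ : A₆` of `PSU₄(3)`: the group facts (helper918)

`TD T` : the facts on `T ≅ PSU₄(3)` used by the representation side; `TD.map`; `tdPSU : TD (PSU 4 F9 3)`.
-/

set_option autoImplicit false
set_option maxRecDepth 20000

namespace Cfsg.Agent.H918.U43

open Cfsg Matrix Cfsg.Agent.ChevalleyStructure.NineField

universe u v

/-- The facts on `T ≅ PSU₄(3)`. -/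
structure TD (T : Type u) [Group T] where
  x : A4 → T
  x_add : ∀ v w, x (v + w) = x v * x w
  x_inj : Function.Injective x
  gens : Set T
  gens_pow : ∀ s ∈ gens, s ^ 3 = 1
  x_mem : ∀ v, x v ∈ Subgroup.closure gens
  norm : ∀ m ∈ Subgroup.closure gens, ∀ v, ∃ w, m * x v * m⁻¹ = x w
  a : Fin 4 → T
  a_mem : ∀ i, a i ∈ Subgroup.closure gens
  act_a : ∀ i v, a i * x v * (a i)⁻¹ = x (Rm i *ᵥ v)
  h : T
  h_mem : h ∈ Subgroup.closure gens
  act_h : ∀ v, h * x v * h⁻¹ = x (RH *ᵥ v)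
  cent : ∀ m ∈ Subgroup.closure gens, (∀ v, m * x v * m⁻¹ = x v) → ∃ v, m = x v
  g : T
  top : Subgroup.closure ((Subgroup.closure gens : Set T) ∪ {g}) = ⊤
  gx : ∀ v : A4, v 3 = 0 → g⁻¹ * x v * g ∈ Subgroup.closure gens
  gh : g⁻¹ * h * g ∈ Subgroup.closure gens
  ga0 : g⁻¹ * a 0 * g = x ![0, 1, 0, 0]
  ga1 : g⁻¹ * a 1 * g = x ![0, 0, 1, 0]

/-- transfer along an isomorphism -/
def TD.map {T : Type u} [Group T] {T' : Type v} [Group T'] (D : TD T) (e : T ≃* T') : TD T' := by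
  have hcl : Subgroup.closure (e '' D.gens) = (Subgroup.closure D.gens).map e.toMonoidHom := by
    rw [MonoidHom.map_closure]; rfl
  have hmem : ∀ t, t ∈ Subgroup.closure D.gens → e t ∈ Subgroup.closure (e '' D.gens) := by
    intro t ht
    rw [hcl]
    exact ⟨t, ht, rfl⟩
  have hmem' : ∀ t', t' ∈ Subgroup.closure (e '' D.gens) → ∃ t ∈ Subgroup.closure D.gens, e t = t' := by
    intro t' ht
    rw [hcl] at ht
    exact ht
  exact
  { x := fun v => e (D.x v)
    x_add := fun v w => by rw [D.x_add, map_mul]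
    x_inj := e.injective.comp D.x_inj
    gens := e '' D.gens
    gens_pow := by
      rintro _ ⟨s, hs, rfl⟩
      rw [← map_pow, D.gens_pow s hs, map_one]
    x_mem := fun v => hmem _ (D.x_mem v)
    norm := by
      intro m hm v
      obtain ⟨t, ht, rfl⟩ := hmem' m hm
      obtain ⟨w, hw⟩ := D.norm t ht v
      exact ⟨w, by rw [← hw, map_mul, map_mul, map_inv]⟩
    a := fun i => e (D.a i)
    a_mem := fun i => hmem _ (D.a_mem i)
    act_a := fun i v => by rw [← D.act_a, map_mul, map_mul, map_inv]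
    h := e D.h
    h_mem := hmem _ D.h_mem
    act_h := fun v => by rw [← D.act_h, map_mul, map_mul, map_inv]
    cent := by
      intro m hm h
      obtain ⟨t, ht, rfl⟩ := hmem' m hm
      obtain ⟨v, hv⟩ := D.cent t ht (fun v => by
        apply e.injective
        rw [map_mul, map_mul, map_inv]
        exact h v)
      exact ⟨v, by rw [hv]⟩
    g := e D.g
    top := by
      rw [hcl]
      have h1 : ((((Subgroup.closure D.gens).map e.toMonoidHom : Subgroup T') : Set T') ∪ {e D.g}) =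
          e.toMonoidHom '' ((Subgroup.closure D.gens : Set T) ∪ {D.g}) := by
        rw [Set.image_union, Set.image_singleton]; rfl
      rw [h1, ← MonoidHom.map_closure, D.top]
      exact Subgroup.map_top_of_surjective _ e.surjective
    gx := fun v hv => by
      have := hmem _ (D.gx v hv)
      rwa [map_mul, map_mul, map_inv] at this
    gh := by
      have := hmem _ D.gh
      rwa [map_mul, map_mul, map_inv] at this
    ga0 := by rw [← D.ga0, map_mul, map_mul, map_inv]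
    ga1 := by rw [← D.ga1, map_mul, map_mul, map_inv] }


open Cfsg.Agent.LieClassical.GUOrder Cfsg.Agent.LieClassical.SUBasic

/-! ### elements of `SU 4 F9 3` -/

theorem hF9 : Fintype.card F9 = 3 ^ 2 := by rw [F9.card_F9]; norm_num

theorem isom_iff (A : Matrix (Fin 4) (Fin 4) F9) :
    (∀ u v : Fin 4 → F9, hermForm 4 F9 3 (A *ᵥ u) (A *ᵥ v) = hermForm 4 F9 3 u v) ↔ Un A := by
  rw [mul_map_eq_one_iff hF9]
  have h1 : A.map (frob hF9) = A.map cj := by
    refine Matrix.ext fun i j => ?_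
    rw [Matrix.map_apply, Matrix.map_apply, frob_apply, pow_three]
  rw [h1]
  have h2 : Aᵀ * A.map cj = (st A * A)ᵀ := by
    rw [Matrix.transpose_mul]; rfl
  rw [h2]
  unfold Un
  constructor
  · intro h
    rw [← Matrix.transpose_transpose (st A * A), h, Matrix.transpose_one]
  · intro h
    rw [h, Matrix.transpose_one]

abbrev SU4 := Cfsg.SU 4 F9 3

/-- the matrix of an element of `SU` -/
def mat (s : SU4) : Matrix (Fin 4) (Fin 4) F9 := ((s : Matrix.SpecialLinearGroup (Fin 4) F9) : Matrix (Fin 4) (Fin 4) F9)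

/-- an element of `SU` -/
def su (A : Matrix (Fin 4) (Fin 4) F9) (hd : A.det = 1) (hu : Un A) : SU4 :=
  ⟨⟨A, hd⟩, (mem_SU_iff _).2 ((isom_iff A).2 hu)⟩

theorem mat_su (A : Matrix (Fin 4) (Fin 4) F9) (hd : A.det = 1) (hu : Un A) : mat (su A hd hu) = A := rfl

theorem mat_mul (s t : SU4) : mat (s * t) = mat s * mat t := rfl

theorem mat_one : mat 1 = 1 := rfl

theorem mat_inj {s t : SU4} (h : mat s = mat t) : s = t := Subtype.ext (Subtype.ext h)

theorem mat_det (s : SU4) : (mat s).det = 1 := (s : Matrix.SpecialLinearGroup (Fin 4) F9).2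

theorem mat_un (s : SU4) : Un (mat s) := (isom_iff _).1 ((mem_SU_iff _).1 s.2)

theorem mat_inv (s : SU4) : mat s⁻¹ = st (mat s) := by
  have h1 : mat s⁻¹ * mat s = 1 := by rw [← mat_mul, inv_mul_cancel, mat_one]
  have h2 : st (mat s) * mat s = 1 := mat_un s
  have h3 := (mat_un s).mul'
  calc mat s⁻¹ = mat s⁻¹ * (mat s * st (mat s)) := by rw [h3, Matrix.mul_one]
    _ = st (mat s) := by rw [← Matrix.mul_assoc, h1, Matrix.one_mul]

abbrev TT := Cfsg.PSU 4 F9 3

/-- the image in `PSU` -/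
def tt : SU4 →* TT := QuotientGroup.mk' _

theorem tt_surj : Function.Surjective tt := QuotientGroup.mk'_surjective _

theorem tt_conj (a b : SU4) : tt a * tt b * (tt a)⁻¹ = tt (a * b * a⁻¹) := by rw [map_mul, map_mul, map_inv]

theorem tt_conj' (a b : SU4) : (tt a)⁻¹ * tt b * tt a = tt (a⁻¹ * b * a) := by rw [map_mul, map_mul, map_inv]

theorem tt_congr {a b : SU4} (h : mat a = mat b) : tt a = tt b := congrArg (fun s => tt s) (mat_inj h)

theorem conj_xs_aux (a b c d : SU4) (hcd : b * c * b⁻¹ = d) : a * b * c * (a * b)⁻¹ = a * d * a⁻¹ := by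
  rw [← hcd]; group

theorem tt_eq_of_smul {s t : SU4} {c : F9} (h : mat t = c • mat s) : tt s = tt t := by
  refine (QuotientGroup.eq (s := Subgroup.center SU4)).2 ?_
  rw [Subgroup.mem_center_iff]
  intro b
  apply mat_inj
  have h1 : mat (s⁻¹ * t) = c • 1 := by rw [mat_mul, mat_inv, h, Matrix.mul_smul, mat_un s]
  rw [mat_mul b, mat_mul _ b, h1, Matrix.mul_smul, Matrix.smul_mul, Matrix.mul_one, Matrix.one_mul]

theorem exists_smul_of_tt_eq {s t : SU4} (h : tt s = tt t) : ∃ c : F9, mat t = c • mat s := by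
  have h1 := (QuotientGroup.eq (s := Subgroup.center SU4)).1 h
  obtain ⟨c, hc, hc', he⟩ := (mem_center_SU_iff hF9 (by norm_num) _).1 h1
  refine ⟨c, ?_⟩
  have h2 : mat (s⁻¹ * t) = Matrix.diagonal fun _ => c := by rw [he]; rfl
  have h3 : t = s * (s⁻¹ * t) := by group
  rw [h3, mat_mul, h2, ← Matrix.smul_one_eq_diagonal, Matrix.mul_smul, Matrix.mul_one]

/-! ### radical, Levi complement, `g` -/

theorem det_lm (A Ai : Matrix (Fin 2) (Fin 2) F9) : (lm A Ai).det = A.det * cj Ai.det := by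
  have h1 : Matrix.fromRows (st V) (st U) * Matrix.fromCols U V = 1 := by
    rw [Matrix.fromRows_mul_fromCols, VU, VV, UU, UV, Matrix.fromBlocks_one]
  have h2 : Matrix.fromCols U V * Matrix.fromRows (st V) (st U) = 1 := by
    rw [Matrix.fromCols_mul_fromRows, UVVU]
  have h3 : lm A Ai = Matrix.fromCols U V * Matrix.fromBlocks A 0 0 (st Ai) * Matrix.fromRows (st V) (st U) := by
    rw [Matrix.fromCols_mul_fromBlocks, Matrix.fromCols_mul_fromRows]
    simp only [Matrix.mul_zero, add_zero, zero_add]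
    rfl
  rw [h3, Matrix.det_conj_of_mul_eq_one h2 h1, Matrix.det_fromBlocks_zero₂₁]
  congr 1
  rw [RingHom.map_det]
  exact Matrix.det_transpose _

def xs (v : A4) : SU4 := su (xm (Cm v)) (det_xm _) (un_xm (Cm_skew v))

def ls (A Ai : Matrix (Fin 2) (Fin 2) F9) (h : A * Ai = 1) (hd : A.det = 1) : SU4 :=
  su (lm A Ai) (by
    rw [det_lm, hd, one_mul]
    have h1 : A.det * Ai.det = 1 := by rw [← Matrix.det_mul, h, Matrix.det_one]
    rw [hd, one_mul] at h1
    rw [h1, map_one]) (un_lm h)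

theorem mat_xs (v : A4) : mat (xs v) = xm (Cm v) := rfl

theorem mat_ls (A Ai : Matrix (Fin 2) (Fin 2) F9) (h : A * Ai = 1) (hd : A.det = 1) : mat (ls A Ai h hd) = lm A Ai := rfl

theorem uM_det (a : F9) : (uM a).det = 1 := by
  rw [Matrix.det_fin_two]
  revert a
  decide +kernel

theorem lM_det (a : F9) : (lM a).det = 1 := by
  rw [Matrix.det_fin_two]
  revert a
  decide +kernel

def us (a : F9) : SU4 := ls (uM a) (uM (-a)) (uM_inv a) (uM_det a)
def vs (a : F9) : SU4 := ls (lM a) (lM (-a)) (lM_inv a) (lM_det a)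
def hs : SU4 := ls (hM ⟨1, 1⟩ ⟨2, 1⟩) (hM ⟨2, 1⟩ ⟨1, 1⟩) (by decide +kernel) (by decide +kernel)

def gM : Matrix (Fin 4) (Fin 4) F9 := Matrix.diagonal ![1, 1, ⟨0, 2⟩, ⟨0, 1⟩]

def gs : SU4 := su gM (by
  unfold gM
  rw [Matrix.det_diagonal]
  decide +kernel) (by decide +kernel)

theorem xs_add (v w : A4) : xs (v + w) = xs v * xs w := by
  apply mat_inj
  rw [mat_mul, mat_xs, mat_xs, mat_xs, xm_mul, Cm_add]

theorem xs_zero : xs 0 = 1 := by
  have h := xs_add 0 0
  rw [add_zero] at h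
  exact (mul_eq_left.1 h.symm)

theorem xs_inj {v w : A4} (h : tt (xs v) = tt (xs w)) : v = w := by
  obtain ⟨c, hc⟩ := exists_smul_of_tt_eq h
  have h1 : xm (Cm w) * U = c • (xm (Cm v) * U) := by rw [← mat_xs, ← mat_xs, hc, Matrix.smul_mul]
  rw [xm_U, xm_U] at h1
  have h2 := congrFun (congrFun h1 0) 0
  have h3 : c = 1 := by
    change (1 : F9) = c * 1 at h2
    rw [mul_one] at h2
    exact h2.symm
  rw [h3, one_smul] at hc
  exact Cm_inj (xm_inj hc.symm)

theorem ls_mul (A Ai B Bi : Matrix (Fin 2) (Fin 2) F9) (h hd h' hd') :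
    ls A Ai h hd * ls B Bi h' hd' = ls (A * B) (Bi * Ai) (by
      rw [Matrix.mul_assoc, ← Matrix.mul_assoc B, h', Matrix.one_mul, h]) (by
      rw [Matrix.det_mul, hd, hd', one_mul]) := by
  apply mat_inj
  rw [mat_mul, mat_ls, mat_ls, mat_ls, lm_mul]

theorem ls_congr {A Ai B Bi : Matrix (Fin 2) (Fin 2) F9} {h hd h' hd'} (e : A = B) (e' : Ai = Bi) :
    ls A Ai h hd = ls B Bi h' hd' := by
  apply mat_inj
  rw [mat_ls, mat_ls, e, e']

/-- the action -/
theorem ls_xs {A Ai : Matrix (Fin 2) (Fin 2) F9} {h hd} {v w : A4} (e : A * Cm v * st A = Cm w) :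
    ls A Ai h hd * xs v * (ls A Ai h hd)⁻¹ = xs w := by
  rw [mul_inv_eq_iff_eq_mul]
  apply mat_inj
  rw [mat_mul, mat_mul, mat_ls, mat_xs, mat_xs, lm_xm h, e]

/-- the generators -/
def gn : Set SU4 := Set.range xs ∪ (Set.range us ∪ Set.range vs)

abbrev MS : Subgroup SU4 := Subgroup.closure gn

theorem xs_mem (v : A4) : xs v ∈ MS := Subgroup.subset_closure (Or.inl ⟨v, rfl⟩)
theorem us_mem (a : F9) : us a ∈ MS := Subgroup.subset_closure (Or.inr (Or.inl ⟨a, rfl⟩))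
theorem vs_mem (a : F9) : vs a ∈ MS := Subgroup.subset_closure (Or.inr (Or.inr ⟨a, rfl⟩))

theorem gn_pow {s : SU4} (hs : s ∈ gn) : s ^ 3 = 1 := by
  rw [pow_succ, pow_two]
  rcases hs with ⟨v, rfl⟩ | ⟨a, rfl⟩ | ⟨a, rfl⟩
  · rw [← xs_add, ← xs_add]
    have h : v + v + v = 0 := by
      refine funext fun i => ?_
      have : ∀ a : ZMod 3, a + a + a = 0 := by decide
      exact this (v i)
    rw [h, xs_zero]
  · unfold us
    rw [ls_mul, ls_mul]
    apply mat_inj
    rw [mat_ls, uM_mul, uM_mul, uM_mul, uM_mul, add_three, ← add_assoc, add_three, uM_zero, lm_one]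
    rfl
  · unfold vs
    rw [ls_mul, ls_mul]
    apply mat_inj
    rw [mat_ls, lM_mul, lM_mul, lM_mul, lM_mul, add_three, ← add_assoc, add_three, lM_zero, lm_one]
    rfl

/-- all of `SL_2` is in `MS` -/
theorem ls_mem (A Ai : Matrix (Fin 2) (Fin 2) F9) (h : A * Ai = 1) (hd : A.det = 1) : ls A Ai h hd ∈ MS := by
  have key1 : ∀ (a : F9) (Bi : Matrix (Fin 2) (Fin 2) F9) (h : uM a * Bi = 1) (hd : (uM a).det = 1),
      ls (uM a) Bi h hd ∈ MS := by
    intro a Bi h hd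
    have e : Bi = uM (-a) := by
      calc Bi = (uM (-a) * uM a) * Bi := by rw [uM_mul, neg_add_cancel, uM_zero, Matrix.one_mul]
        _ = uM (-a) := by rw [Matrix.mul_assoc, h, Matrix.mul_one]
    rw [ls_congr (h' := uM_inv a) (hd' := uM_det a) rfl e]
    exact us_mem a
  have key2 : ∀ (a : F9) (Bi : Matrix (Fin 2) (Fin 2) F9) (h : lM a * Bi = 1) (hd : (lM a).det = 1),
      ls (lM a) Bi h hd ∈ MS := by
    intro a Bi h hd
    have e : Bi = lM (-a) := by
      calc Bi = (lM (-a) * lM a) * Bi := by rw [lM_mul, neg_add_cancel, lM_zero, Matrix.one_mul]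
        _ = lM (-a) := by rw [Matrix.mul_assoc, h, Matrix.mul_one]
    rw [ls_congr (h' := lM_inv a) (hd' := lM_det a) rfl e]
    exact vs_mem a
  have key3 : ∀ (B C : Matrix (Fin 2) (Fin 2) F9)
      (_ : B.det = 1 ∧ ∀ (Bi : Matrix (Fin 2) (Fin 2) F9) (h : B * Bi = 1) (hd : B.det = 1), ls B Bi h hd ∈ MS)
      (_ : C.det = 1 ∧ ∀ (Ci : Matrix (Fin 2) (Fin 2) F9) (h : C * Ci = 1) (hd : C.det = 1), ls C Ci h hd ∈ MS)
      (Bi : Matrix (Fin 2) (Fin 2) F9) (h : (B * C) * Bi = 1) (hd : (B * C).det = 1), ls (B * C) Bi h hd ∈ MS := by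
    intro B C hB hC Bi h hd
    have hB1 : B * B.adjugate = 1 := by rw [Matrix.mul_adjugate, hB.1, one_smul]
    have hC1 : C * C.adjugate = 1 := by rw [Matrix.mul_adjugate, hC.1, one_smul]
    have e : Bi = C.adjugate * B.adjugate := by
      have h1 : (C.adjugate * B.adjugate) * (B * C) = 1 := by
        rw [Matrix.mul_assoc, ← Matrix.mul_assoc B.adjugate, Matrix.adjugate_mul, hB.1, one_smul, Matrix.one_mul,
          Matrix.adjugate_mul, hC.1, one_smul]
      calc Bi = (C.adjugate * B.adjugate) * (B * C) * Bi := by rw [h1, Matrix.one_mul]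
        _ = C.adjugate * B.adjugate := by rw [Matrix.mul_assoc, h, Matrix.mul_one]
    have h2 := MS.mul_mem (hB.2 _ hB1 hB.1) (hC.2 _ hC1 hC.1)
    rw [ls_mul] at h2
    rw [ls_congr rfl e]
    exact h2
  have key : A ∈ {B : Matrix (Fin 2) (Fin 2) F9 | B.det = 1 ∧ ∀ (Bi : Matrix (Fin 2) (Fin 2) F9) (h : B * Bi = 1)
      (hd : B.det = 1), ls B Bi h hd ∈ MS} := by
    apply sl_gen _ _ _ _ A hd
    · intro a
      refine ⟨uM_det a, fun Bi h hd => ?_⟩
      exact key1 a Bi h hd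
    · intro a
      refine ⟨lM_det a, fun Bi h hd => ?_⟩
      exact key2 a Bi h hd
    · intro B C hB hC
      refine ⟨by rw [Matrix.det_mul, hB.1, hC.1, one_mul], fun Bi h hd => ?_⟩
      exact key3 B C hB hC Bi h hd
  exact key.2 Ai h hd

/-- the elements of `MS` -/
theorem form_of_mem {s : SU4} (hs : s ∈ MS) :
    ∃ (w : A4) (A Ai : Matrix (Fin 2) (Fin 2) F9) (h : A * Ai = 1) (hd : A.det = 1), s = xs w * ls A Ai h hd := by
  induction hs using Subgroup.closure_induction with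
  | mem s hs =>
    rcases hs with ⟨v, rfl⟩ | ⟨a, rfl⟩ | ⟨a, rfl⟩
    · refine ⟨v, 1, 1, Matrix.mul_one _, Matrix.det_one, ?_⟩
      apply mat_inj
      rw [mat_mul, mat_ls, lm_one, Matrix.mul_one]
    · exact ⟨0, _, _, uM_inv a, uM_det a, by rw [xs_zero, one_mul]; rfl⟩
    · exact ⟨0, _, _, lM_inv a, lM_det a, by rw [xs_zero, one_mul]; rfl⟩
  | one =>
    refine ⟨0, 1, 1, Matrix.mul_one _, Matrix.det_one, ?_⟩
    apply mat_inj
    rw [mat_mul, mat_ls, lm_one, Matrix.mul_one, xs_zero]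
  | mul s t hs ht ihs iht =>
    obtain ⟨w, A, Ai, h, hd, rfl⟩ := ihs
    obtain ⟨w', B, Bi, h', hd', rfl⟩ := iht
    obtain ⟨w2, hw2⟩ := exists_Cm (skew_conj (A := A) (Cm_skew w'))
    refine ⟨w + w2, A * B, Bi * Ai, ?_, ?_, ?_⟩
    · rw [Matrix.mul_assoc, ← Matrix.mul_assoc B, h', Matrix.one_mul, h]
    · rw [Matrix.det_mul, hd, hd', one_mul]
    · rw [← ls_mul A Ai B Bi h hd h' hd', xs_add]
      have h3 := ls_xs (Ai := Ai) (h := h) (hd := hd) hw2
      rw [mul_inv_eq_iff_eq_mul] at h3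
      rw [mul_assoc, ← mul_assoc (ls A Ai h hd), h3, mul_assoc, mul_assoc]
  | inv s hs ihs =>
    obtain ⟨w, A, Ai, h, hd, rfl⟩ := ihs
    have h' : Ai * A = 1 := mul_eq_one_comm.1 h
    have hd' : Ai.det = 1 := by
      have h1 : A.det * Ai.det = 1 := by rw [← Matrix.det_mul, h, Matrix.det_one]
      rwa [hd, one_mul] at h1
    obtain ⟨w2, hw2⟩ := exists_Cm (skew_conj (A := Ai) (Cm_skew (-w)))
    refine ⟨w2, Ai, A, h', hd', ?_⟩
    have e1 : (ls A Ai h hd)⁻¹ = ls Ai A h' hd' := by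
      rw [inv_eq_iff_mul_eq_one, ls_mul]
      apply mat_inj
      rw [mat_ls, h, lm_one]
      rfl
    have e2 : (xs w)⁻¹ = xs (-w) := by
      rw [inv_eq_iff_mul_eq_one, ← xs_add, add_neg_cancel, xs_zero]
    have h3 := ls_xs (Ai := A) (h := h') (hd := hd') hw2
    rw [mul_inv_eq_iff_eq_mul] at h3
    rw [_root_.mul_inv_rev, e1, e2, h3]

/-- the stabiliser of `⟨U⟩` -/
theorem mem_of_stab {s : SU4} {A : Matrix (Fin 2) (Fin 2) F9} (hA : mat s * U = U * A) :
    tt s ∈ MS.map tt := by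
  obtain ⟨Ai, C, h, hC, hs⟩ := decomp (mat_un s) hA
  obtain ⟨w, rfl⟩ := exists_Cm hC
  have hd1 : A.det * Ai.det = 1 := by rw [← Matrix.det_mul, h, Matrix.det_one]
  have hd2 : A.det * cj Ai.det = 1 := by
    have h1 := mat_det s
    rwa [hs, Matrix.det_mul, det_xm, one_mul, det_lm] at h1
  have key : ∀ d e : F9, d * e = 1 → d * cj e = 1 → d = 1 ∨ d = -1 := by decide +kernel
  rcases key _ _ hd1 hd2 with hd | hd
  · exact ⟨xs w * ls A Ai h hd, MS.mul_mem (xs_mem w) (ls_mem _ _ _ _), tt_congr hs.symm⟩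
  · have h' : ((⟨0, 1⟩ : F9) • A) * ((⟨0, 2⟩ : F9) • Ai) = 1 := by
      rw [Matrix.smul_mul, Matrix.mul_smul, h, smul_smul]
      have : (⟨0, 1⟩ : F9) * ⟨0, 2⟩ = 1 := by decide +kernel
      rw [this, one_smul]
    have hd' : ((⟨0, 1⟩ : F9) • A).det = 1 := by
      rw [Matrix.det_smul, hd, Fintype.card_fin]
      decide +kernel
    refine ⟨xs w * ls _ _ h' hd', MS.mul_mem (xs_mem w) (ls_mem _ _ _ _), ?_⟩
    refine (tt_eq_of_smul (c := ⟨0, 1⟩) ?_).symm
    rw [mat_mul, mat_xs, mat_ls, hs, ← Matrix.mul_smul]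
    congr 1
    unfold lm
    rw [st_smul, smul_add, Matrix.mul_smul, Matrix.smul_mul, Matrix.mul_smul, Matrix.smul_mul]
    rfl

/-- the centraliser of the radical -/
theorem cent_MS {s : SU4} (hs : s ∈ MS) (h : ∀ v, tt s * tt (xs v) * (tt s)⁻¹ = tt (xs v)) : ∃ v, tt s = tt (xs v) := by
  obtain ⟨w, A, Ai, hA, hd, rfl⟩ := form_of_mem hs
  have h1 : ∀ v, A * Cm v * st A = Cm v := by
    intro v
    obtain ⟨w2, hw2⟩ := exists_Cm (skew_conj (A := A) (Cm_skew v))
    have h3 := ls_xs (Ai := Ai) (h := hA) (hd := hd) hw2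
    have h4 : tt (xs w * ls A Ai hA hd) * tt (xs v) * (tt (xs w * ls A Ai hA hd))⁻¹ = tt (xs w2) := by
      rw [tt_conj, conj_xs_aux _ _ _ _ h3, ← xs_add, add_comm w w2, xs_add, mul_inv_cancel_right]
    rw [h v] at h4
    rw [hw2, xs_inj h4]
  rcases sl_cent hd h1 with rfl | rfl
  · refine ⟨w, tt_congr ?_⟩
    have e : Ai = 1 := by rwa [Matrix.one_mul] at hA
    rw [mat_mul, mat_ls, e, lm_one, Matrix.mul_one]
  · refine ⟨w, (tt_eq_of_smul (c := -1) ?_).symm⟩
    have e : Ai = -1 := by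
      rw [Matrix.neg_mul, Matrix.one_mul] at hA
      rw [← neg_neg Ai, hA]
    have e2 : lm (-1) (-1) = -1 := by
      unfold lm
      rw [st_neg, st_one, Matrix.mul_neg, Matrix.mul_neg, Matrix.mul_one, Matrix.mul_one, Matrix.neg_mul,
        Matrix.neg_mul, ← neg_add, UVVU]
    rw [mat_mul, mat_ls, e, e2, Matrix.mul_neg, Matrix.mul_one, neg_smul, one_smul]

theorem gs_inv_mat : mat gs⁻¹ = Matrix.diagonal ![1, 1, ⟨0, 1⟩, ⟨0, 2⟩] := by
  rw [mat_inv]
  unfold gs
  rw [mat_su]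
  decide +kernel

theorem mat_gs : mat gs = gM := rfl

theorem gs_conj (s : SU4) (X : Matrix (Fin 4) (Fin 4) F9) (h : mat s = X) (A : Matrix (Fin 2) (Fin 2) F9)
    (e : (Matrix.diagonal ![1, 1, ⟨0, 1⟩, ⟨0, 2⟩] * X * gM) * U = U * A) : (tt gs)⁻¹ * tt s * tt gs ∈ MS.map tt := by
  rw [tt_conj']
  refine mem_of_stab (A := A) ?_
  rw [mat_mul, mat_mul, gs_inv_mat, h, mat_gs, e]

theorem gs_hs : (tt gs)⁻¹ * tt hs * tt gs ∈ MS.map tt :=
  gs_conj hs (lm (hM ⟨1, 1⟩ ⟨2, 1⟩) (hM ⟨2, 1⟩ ⟨1, 1⟩)) rfl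
    (st V * (Matrix.diagonal ![1, 1, ⟨0, 1⟩, ⟨0, 2⟩] * lm (hM ⟨1, 1⟩ ⟨2, 1⟩) (hM ⟨2, 1⟩ ⟨1, 1⟩) * gM) * U)
    (by decide +kernel)

theorem gs_xs {v : A4} (hv : v 3 = 0) : (tt gs)⁻¹ * tt (xs v) * tt gs ∈ MS.map tt := by
  have k : ∀ a b c : ZMod 3, (Matrix.diagonal ![1, 1, ⟨0, 1⟩, ⟨0, 2⟩] * xm (Cm ![a, b, c, 0]) * gM) * U =
      U * (st V * (Matrix.diagonal ![1, 1, ⟨0, 1⟩, ⟨0, 2⟩] * xm (Cm ![a, b, c, 0]) * gM) * U) := by decide +kernel
  refine gs_conj (xs v) (xm (Cm ![v 0, v 1, v 2, 0])) ?_ _ (k _ _ _)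
  rw [mat_xs]
  congr 2
  rw [← hv]
  exact vec4 v

theorem gs_us {a : F9} {w : A4} (e : Matrix.diagonal ![1, 1, ⟨0, 1⟩, ⟨0, 2⟩] * lm (uM a) (uM (-a)) * gM = xm (Cm w)) :
    (tt gs)⁻¹ * tt (us a) * tt gs = tt (xs w) := by
  rw [tt_conj']
  apply tt_congr
  rw [mat_mul, mat_mul, gs_inv_mat, mat_gs, mat_xs]
  exact e

/-! ### generation -/

/-- `⟨U⟩` -/
noncomputable def WU : Submodule F9 (Fin 4 → F9) := LinearMap.range (Matrix.mulVecLin U)

theorem mem_WU {y : Fin 4 → F9} : y ∈ WU ↔ ∃ z, U *ᵥ z = y := Iff.rfl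

theorem WU_ne : WU ≠ ⊥ := by
  intro h
  have h1 : U *ᵥ (Pi.single 0 1) ∈ WU := ⟨_, rfl⟩
  rw [h, Submodule.mem_bot, Matrix.mulVec_single_one] at h1
  have h2 := congrFun h1 0
  exact absurd h2 (by decide +kernel)

theorem WU_sing : Geo.IsTotallySingularFor (hermForm 4 F9 3) WU := by
  rintro _ ⟨x, rfl⟩ _ ⟨y, rfl⟩
  have h1 : hermForm 4 F9 3 (U *ᵥ x) (U *ᵥ y) = (U *ᵥ x) ⬝ᵥ (fun i => cj ((U *ᵥ y) i)) := by
    unfold hermForm dotProduct
    refine Finset.sum_congr rfl fun i _ => ?_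
    rw [pow_three]
  have h2 : (fun i => cj ((U *ᵥ y) i)) = (U.map cj) *ᵥ (fun i => cj (y i)) := by
    funext i
    simp only [Matrix.mulVec, dotProduct, map_sum, map_mul, Matrix.map_apply]
  have h3 : Uᵀ * U.map cj = 0 := by decide +kernel
  change hermForm 4 F9 3 (U *ᵥ x) (U *ᵥ y) = 0
  rw [h1, h2, Matrix.dotProduct_mulVec, ← Matrix.vecMul_transpose, Matrix.vecMul_vecMul, h3, Matrix.vecMul_zero,
    zero_dotProduct]

theorem tt_top : Subgroup.closure (((MS.map tt : Subgroup TT) : Set TT) ∪ {tt gs}) = ⊤ := by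
  have hmax := H876.Sing.sing_maximal 4 3 hF9 (by norm_num) (by omega) WU WU_ne WU_sing
  set N := Subgroup.closure (((MS.map tt : Subgroup TT) : Set TT) ∪ {tt gs}) with hN
  -- the preimage in `GL`
  set N' := (N.comap tt).map (H876.suGL 4 F9 3) with hN'
  have hle : N' ≤ Cfsg.GU 4 F9 3 ⊓ Geo.specialLinear (Fin 4) F9 := by
    rintro _ ⟨s, _, rfl⟩
    exact H876.suGL_mem s
  have hge : Geo.subspaceStabilizer WU ⊓ (Cfsg.GU 4 F9 3 ⊓ Geo.specialLinear (Fin 4) F9) ≤ N' := by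
    rintro k ⟨hk1, hk2⟩
    obtain ⟨s, rfl⟩ := H876.exists_suGL_eq hk2
    refine ⟨s, ?_, rfl⟩
    rw [SetLike.mem_coe, Subgroup.mem_comap]
    -- a matrix `A` with `s U = U A`
    have h1 : ∀ j, ∃ z, U *ᵥ z = mat s *ᵥ (U *ᵥ (Pi.single j 1)) := by
      intro j
      have h2 := (H876.mem_stab_iff.1 hk1 (U *ᵥ (Pi.single j 1))).1 ⟨_, rfl⟩
      exact h2
    choose z hz using h1
    have h3 : mat s * U = U * Matrix.of (fun i j => z j i) := by
      refine Matrix.ext fun i j => ?_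
      have h4 := congrFun (hz j) i
      rw [Matrix.mulVec_mulVec, Matrix.mulVec_single_one] at h4
      rw [← Matrix.col_apply (mat s * U), ← h4]
      rfl
    exact Subgroup.subset_closure (Or.inl (mem_of_stab h3))
  rcases hmax.2 N' hge hle with h | h
  · exfalso
    have h1 : H876.suGL 4 F9 3 gs ∈ N' := ⟨gs, Subgroup.subset_closure (Or.inr rfl), rfl⟩
    rw [h] at h1
    have h2 := (H876.mem_stab_iff.1 h1.1 (U *ᵥ (Pi.single 1 1))).1 ⟨_, rfl⟩
    obtain ⟨z, hz⟩ := h2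
    have h3 : st U *ᵥ (U *ᵥ z) = 0 := by rw [Matrix.mulVec_mulVec, UU, Matrix.zero_mulVec]
    have h4 : U *ᵥ z = gM *ᵥ (U *ᵥ (Pi.single 1 1)) := hz
    rw [h4, Matrix.mulVec_mulVec, Matrix.mulVec_mulVec, Matrix.mulVec_single_one] at h3
    have h5 := congrFun h3 1
    revert h5
    decide +kernel
  · rw [eq_top_iff]
    intro t _
    obtain ⟨s, rfl⟩ := tt_surj t
    have h1 : H876.suGL 4 F9 3 s ∈ N' := by rw [h]; exact H876.suGL_mem s
    obtain ⟨s', hs', he⟩ := h1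
    have h2 : s' = s := by
      apply mat_inj
      exact congrArg Units.val he
    rw [← h2]
    exact hs'

theorem map_conj_aux {a b c : SU4} (h : a * b * a⁻¹ = c) : tt a * tt b * (tt a)⁻¹ = tt c := by
  rw [tt_conj, h]

/-- **The facts for `PSU₄(3)`.** -/
noncomputable def tdPSU : TD TT := by
  have hcl : Subgroup.closure (tt '' gn) = MS.map tt := by rw [MonoidHom.map_closure]
  have hmem : ∀ s, s ∈ MS → tt s ∈ Subgroup.closure (tt '' gn) := by
    intro s hs
    rw [hcl]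
    exact ⟨s, hs, rfl⟩
  exact
  { x := fun v => tt (xs v)
    x_add := fun v w => by rw [xs_add, map_mul]
    x_inj := fun v w h => xs_inj h
    gens := tt '' gn
    gens_pow := by
      rintro _ ⟨s, hs, rfl⟩
      rw [← map_pow, gn_pow hs, map_one]
    x_mem := fun v => hmem _ (xs_mem v)
    norm := by
      intro m hm v
      rw [hcl] at hm
      obtain ⟨s, hs, rfl⟩ := hm
      obtain ⟨w, A, Ai, hA, hd, rfl⟩ := form_of_mem hs
      obtain ⟨w2, hw2⟩ := exists_Cm (skew_conj (A := A) (Cm_skew v))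
      have h3 := ls_xs (Ai := Ai) (h := hA) (hd := hd) hw2
      refine ⟨w2, ?_⟩
      rw [tt_conj, conj_xs_aux _ _ _ _ h3, ← xs_add, add_comm w w2, xs_add, mul_inv_cancel_right]
    a := ![tt (us ⟨1, 0⟩), tt (us ⟨0, 1⟩), tt (vs ⟨1, 0⟩), tt (vs ⟨0, 1⟩)]
    a_mem := by
      intro i
      fin_cases i
      · exact hmem _ (us_mem _)
      · exact hmem _ (us_mem _)
      · exact hmem _ (vs_mem _)
      · exact hmem _ (vs_mem _)
    act_a := by
      intro i v
      fin_cases i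
      · exact (map_conj_aux (ls_xs (act_u0 v)))
      · exact (map_conj_aux (ls_xs (act_u1 v)))
      · exact (map_conj_aux (ls_xs (act_l0 v)))
      · exact (map_conj_aux (ls_xs (act_l1 v)))
    h := tt hs
    h_mem := hmem _ (ls_mem _ _ _ _)
    act_h := fun v => map_conj_aux (ls_xs (act_hM v))
    cent := by
      intro m hm h
      rw [hcl] at hm
      obtain ⟨s, hs, rfl⟩ := hm
      exact cent_MS hs h
    g := tt gs
    top := by
      rw [hcl]
      exact tt_top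
    gx := fun v hv => by
      rw [hcl]
      exact gs_xs hv
    gh := by
      rw [hcl]
      exact gs_hs
    ga0 := gs_us (by decide +kernel)
    ga1 := gs_us (by decide +kernel) }

/-- The facts for a group isomorphic to `PSU₄(3)`. -/
theorem exists_TD {T : Type u} [Group T] {K : Type v} [Field K] [Fintype K] (hK : Fintype.card K = 9)
    (e : T ≃* Cfsg.PSU 4 K 3) : Nonempty (TD T) := by
  have h1 : Fintype.card F9 = Fintype.card K := by rw [F9.card_F9, hK]
  have e2 : TT ≃* Cfsg.PSU 4 K 3 := LieClassical.FieldTransfer.psuCongr 4 3 (FiniteField.ringEquivOfCardEq h1)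
  exact ⟨tdPSU.map (e2.trans e.symm)⟩

end Cfsg.Agent.H918.U43
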