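import Cfsg.Agent.ChevalleyStructure.NineField
import Cfsg.Agent.LieClassical.GUOrder
import Cfsg.Agent.LieClassical.SUBasic

/-!
# The parabolic `3⁴ : A₆` of `PSU₄(3)`, matrices over the field with nine elements (helper918)
-/

set_option autoImplicit false
set_option maxRecDepth 20000

namespace Cfsg.Agent.H918.U43

open Cfsg Matrix Cfsg.Agent.ChevalleyStructure.NineField

/-- conjugation -/
def cj : F9 →+* F9 where
  toFun x := ⟨x.re, -x.im⟩
  map_one' := by decide +kernel
  map_mul' := by decide +kernel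
  map_zero' := by decide +kernel
  map_add' := by decide +kernel

theorem cj_cj (x : F9) : cj (cj x) = x := by revert x; decide +kernel

theorem pow_three (x : F9) : x ^ 3 = cj x := by revert x; decide +kernel

/-- conjugate transpose -/
def st {m n : ℕ} (A : Matrix (Fin m) (Fin n) F9) : Matrix (Fin n) (Fin m) F9 := (A.map cj)ᵀ

theorem st_apply {m n : ℕ} (A : Matrix (Fin m) (Fin n) F9) (i : Fin n) (j : Fin m) : st A i j = cj (A j i) := rfl

theorem st_st {m n : ℕ} (A : Matrix (Fin m) (Fin n) F9) : st (st A) = A := by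
  refine Matrix.ext fun i j => ?_
  rw [st_apply, st_apply, cj_cj]

theorem st_mul {m n k : ℕ} (A : Matrix (Fin m) (Fin n) F9) (B : Matrix (Fin n) (Fin k) F9) :
    st (A * B) = st B * st A := by
  unfold st
  rw [Matrix.map_mul, Matrix.transpose_mul]

theorem st_add {m n : ℕ} (A B : Matrix (Fin m) (Fin n) F9) : st (A + B) = st A + st B := by
  refine Matrix.ext fun i j => ?_
  rw [st_apply, Matrix.add_apply, map_add, Matrix.add_apply, st_apply, st_apply]

theorem st_neg {m n : ℕ} (A : Matrix (Fin m) (Fin n) F9) : st (-A) = -st A := by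
  refine Matrix.ext fun i j => ?_
  rw [st_apply, Matrix.neg_apply, map_neg, Matrix.neg_apply, st_apply]

theorem st_one {n : ℕ} : st (1 : Matrix (Fin n) (Fin n) F9) = 1 := by
  refine Matrix.ext fun i j => ?_
  rw [st_apply, Matrix.one_apply, Matrix.one_apply]
  by_cases h : i = j
  · rw [if_pos h, if_pos h.symm, map_one]
  · rw [if_neg h, if_neg (fun h' => h h'.symm), map_zero]

theorem st_smul {m n : ℕ} (c : F9) (A : Matrix (Fin m) (Fin n) F9) : st (c • A) = cj c • st A := by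
  refine Matrix.ext fun i j => ?_
  rw [st_apply, Matrix.smul_apply, smul_eq_mul, map_mul, Matrix.smul_apply, st_apply, smul_eq_mul]

/-! ### the hyperbolic frame -/

def U : Matrix (Fin 4) (Fin 2) F9 := !![⟨1, 0⟩, ⟨0, 0⟩; ⟨1, 1⟩, ⟨0, 0⟩; ⟨0, 0⟩, ⟨1, 0⟩; ⟨0, 0⟩, ⟨1, 1⟩]

def V : Matrix (Fin 4) (Fin 2) F9 := !![⟨2, 0⟩, ⟨0, 0⟩; ⟨1, 1⟩, ⟨0, 0⟩; ⟨0, 0⟩, ⟨2, 0⟩; ⟨0, 0⟩, ⟨1, 1⟩]

theorem UU : st U * U = 0 := by decide +kernel
theorem VV : st V * V = 0 := by decide +kernel
theorem VU : st V * U = 1 := by decide +kernel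
theorem UV : st U * V = 1 := by decide +kernel
theorem UVVU : U * st V + V * st U = 1 := by decide +kernel

/-- the matrices of the radical -/
def xm (C : Matrix (Fin 2) (Fin 2) F9) : Matrix (Fin 4) (Fin 4) F9 := 1 + U * C * st U

/-- the matrices of the Levi complement; `Ai` is the inverse of `A` -/
def lm (A Ai : Matrix (Fin 2) (Fin 2) F9) : Matrix (Fin 4) (Fin 4) F9 := U * A * st V + V * st Ai * st U

theorem xm_U (C : Matrix (Fin 2) (Fin 2) F9) : xm C * U = U := by
  unfold xm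
  rw [Matrix.add_mul, Matrix.one_mul, Matrix.mul_assoc (U * C), UU, Matrix.mul_zero, add_zero]

theorem xm_V (C : Matrix (Fin 2) (Fin 2) F9) : xm C * V = V + U * C := by
  unfold xm
  rw [Matrix.add_mul, Matrix.one_mul, Matrix.mul_assoc (U * C), UV, Matrix.mul_one]

theorem lm_U (A Ai : Matrix (Fin 2) (Fin 2) F9) : lm A Ai * U = U * A := by
  unfold lm
  rw [Matrix.add_mul, Matrix.mul_assoc (U * A), VU, Matrix.mul_one, Matrix.mul_assoc (V * st Ai), UU, Matrix.mul_zero, add_zero]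

theorem lm_V (A Ai : Matrix (Fin 2) (Fin 2) F9) : lm A Ai * V = V * st Ai := by
  unfold lm
  rw [Matrix.add_mul, Matrix.mul_assoc (U * A), VV, Matrix.mul_zero, Matrix.mul_assoc (V * st Ai), UV, Matrix.mul_one, zero_add]

/-- a matrix is determined by its action on the frame -/
theorem ext_UV {n : ℕ} {X Y : Matrix (Fin n) (Fin 4) F9} (h1 : X * U = Y * U) (h2 : X * V = Y * V) : X = Y := by
  have h : ∀ Z : Matrix (Fin n) (Fin 4) F9, Z = Z * U * st V + Z * V * st U := by
    intro Z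
    rw [Matrix.mul_assoc, Matrix.mul_assoc, ← Matrix.mul_add, UVVU, Matrix.mul_one]
  rw [h X, h Y, h1, h2]

theorem xm_mul (C D : Matrix (Fin 2) (Fin 2) F9) : xm C * xm D = xm (C + D) := by
  apply ext_UV
  · rw [Matrix.mul_assoc, xm_U, xm_U, xm_U]
  · rw [Matrix.mul_assoc, xm_V, Matrix.mul_add, xm_V, ← Matrix.mul_assoc, xm_U, xm_V, Matrix.mul_add, add_assoc]

theorem xm_zero : xm 0 = 1 := by
  unfold xm
  rw [Matrix.mul_zero, Matrix.zero_mul, add_zero]

theorem xm_inj {C D : Matrix (Fin 2) (Fin 2) F9} (h : xm C = xm D) : C = D := by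
  have h1 : st V * (xm C * V) = st V * (xm D * V) := by rw [h]
  rw [xm_V, xm_V, Matrix.mul_add, Matrix.mul_add, ← Matrix.mul_assoc, ← Matrix.mul_assoc, VU, Matrix.one_mul,
    Matrix.one_mul] at h1
  exact add_left_cancel h1

theorem lm_mul (A Ai B Bi : Matrix (Fin 2) (Fin 2) F9) : lm A Ai * lm B Bi = lm (A * B) (Bi * Ai) := by
  apply ext_UV
  · rw [Matrix.mul_assoc, lm_U, ← Matrix.mul_assoc, lm_U, lm_U, Matrix.mul_assoc]
  · rw [Matrix.mul_assoc, lm_V, ← Matrix.mul_assoc, lm_V, lm_V, st_mul, Matrix.mul_assoc]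

theorem lm_one : lm 1 1 = 1 := by
  unfold lm
  rw [Matrix.mul_one, st_one, Matrix.mul_one, UVVU]

/-- the action on the radical -/
theorem lm_xm {A Ai : Matrix (Fin 2) (Fin 2) F9} (h : A * Ai = 1) (C : Matrix (Fin 2) (Fin 2) F9) :
    lm A Ai * xm C = xm (A * C * st A) * lm A Ai := by
  have h' : Ai * A = 1 := mul_eq_one_comm.1 h
  have h2 : st A * st Ai = 1 := by rw [← st_mul, h', st_one]
  apply ext_UV
  · rw [Matrix.mul_assoc, xm_U, lm_U, Matrix.mul_assoc, lm_U, ← Matrix.mul_assoc, xm_U]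
  · rw [Matrix.mul_assoc, xm_V, Matrix.mul_add, lm_V, ← Matrix.mul_assoc, lm_U,
      Matrix.mul_assoc (xm (A * C * st A)) (lm A Ai) V, lm_V,
      ← Matrix.mul_assoc, xm_V, Matrix.add_mul, Matrix.mul_assoc U (A * C * st A), Matrix.mul_assoc (A * C), h2,
      Matrix.mul_one, Matrix.mul_assoc U A]

/-! ### unitary matrices -/

/-- unitary -/
def Un (s : Matrix (Fin 4) (Fin 4) F9) : Prop := st s * s = 1

instance (s : Matrix (Fin 4) (Fin 4) F9) : Decidable (Un s) := inferInstanceAs (Decidable (_ = _))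

theorem Un.mul {s t : Matrix (Fin 4) (Fin 4) F9} (hs : Un s) (ht : Un t) : Un (s * t) := by
  unfold Un at *
  rw [st_mul, Matrix.mul_assoc, ← Matrix.mul_assoc (st s), hs, Matrix.one_mul, ht]

theorem Un.mul' {s : Matrix (Fin 4) (Fin 4) F9} (hs : Un s) : s * st s = 1 := mul_eq_one_comm.1 hs

theorem Un.st {s : Matrix (Fin 4) (Fin 4) F9} (hs : Un s) : Un (st s) := by
  unfold Un
  rw [st_st]
  exact hs.mul'

theorem un_xm {C : Matrix (Fin 2) (Fin 2) F9} (hC : U43.st C = -C) : Un (xm C) := by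
  have h : U43.st (xm C) = xm (-C) := by
    unfold xm
    rw [st_add, st_one, st_mul, st_mul, st_st, hC, Matrix.mul_assoc]
  unfold Un
  rw [h, xm_mul, neg_add_cancel, xm_zero]

theorem un_lm {A Ai : Matrix (Fin 2) (Fin 2) F9} (h : A * Ai = 1) : Un (lm A Ai) := by
  have h' : Ai * A = 1 := mul_eq_one_comm.1 h
  have h1 : U43.st (lm A Ai) = lm Ai A := by
    unfold lm
    rw [st_add, st_mul, st_mul, st_mul, st_mul, st_st, st_st, st_st, add_comm, Matrix.mul_assoc, Matrix.mul_assoc]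
  unfold Un
  rw [h1, lm_mul, h', lm_one]

theorem det_xm (C : Matrix (Fin 2) (Fin 2) F9) : (xm C).det = 1 := by
  unfold xm
  rw [Matrix.mul_assoc, Matrix.det_one_add_mul_comm, Matrix.mul_assoc, UU, Matrix.mul_zero, add_zero, Matrix.det_one]

/-- **Decomposition** of the unitary matrices stabilising `⟨U⟩`. -/
theorem decomp {s : Matrix (Fin 4) (Fin 4) F9} (hs : Un s) {A : Matrix (Fin 2) (Fin 2) F9} (hA : s * U = U * A) :
    ∃ Ai C, A * Ai = 1 ∧ U43.st C = -C ∧ s = xm C * lm A Ai := by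
  -- `A` is invertible
  have h1 : A * (U43.st V * U43.st s * U) = 1 := by
    have h2 : U43.st V * s * U = A := by rw [Matrix.mul_assoc, hA, ← Matrix.mul_assoc, VU, Matrix.one_mul]
    have h3 : (U43.st V * U43.st s * U) * A = 1 := by
      rw [Matrix.mul_assoc, ← hA, ← Matrix.mul_assoc, Matrix.mul_assoc (U43.st V), hs, Matrix.mul_one, VU]
    exact mul_eq_one_comm.1 h3
  set Ai := U43.st V * U43.st s * U with hAi
  have h1' : Ai * A = 1 := mul_eq_one_comm.1 h1
  set t := s * lm Ai A with ht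
  have htu : Un t := hs.mul (un_lm h1')
  have htU : t * U = U := by
    rw [ht, Matrix.mul_assoc, lm_U, ← Matrix.mul_assoc, hA, Matrix.mul_assoc, h1, Matrix.mul_one]
  have hst : U43.st U * U43.st t = U43.st U := by rw [← st_mul, htU]
  -- coordinates of `t V`
  have hdec : t * V = U * (U43.st V * t * V) + V := by
    have h2 : t * V = U * (U43.st V * (t * V)) + V * (U43.st U * (t * V)) := by
      rw [← Matrix.mul_assoc, ← Matrix.mul_assoc V, ← Matrix.add_mul, UVVU, Matrix.one_mul]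
    have h3 : U43.st U * (t * V) = 1 := by
      have h4 : U43.st U * (t * V) = U43.st U * U43.st t * (t * V) := by rw [hst]
      rw [h4, Matrix.mul_assoc, ← Matrix.mul_assoc (U43.st t), htu, Matrix.one_mul, UV]
    rw [h3, Matrix.mul_one, ← Matrix.mul_assoc (U43.st V)] at h2
    exact h2
  set C := U43.st V * t * V with hC
  refine ⟨Ai, C, h1, ?_, ?_⟩
  · have h2 : U43.st (t * V) * (t * V) = 0 := by
      rw [st_mul, Matrix.mul_assoc, ← Matrix.mul_assoc (U43.st t), htu, Matrix.one_mul, VV]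
    rw [hdec, st_add, st_mul, Matrix.add_mul, Matrix.mul_add, Matrix.mul_add, Matrix.mul_assoc (U43.st C),
      ← Matrix.mul_assoc (U43.st U) U, UU, Matrix.zero_mul, Matrix.mul_zero, zero_add, Matrix.mul_assoc (U43.st C), UV,
      Matrix.mul_one, ← Matrix.mul_assoc, VU, Matrix.one_mul, VV, add_zero] at h2
    exact eq_neg_of_add_eq_zero_left h2
  · have h2 : t = xm C := by
      apply ext_UV
      · rw [htU, xm_U]
      · rw [hdec, xm_V, add_comm]
    rw [← h2, ht, Matrix.mul_assoc, lm_mul, h1', lm_one, Matrix.mul_one]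

end Cfsg.Agent.H918.U43
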